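import Cfsg.Agent.HZ.L.RegT.Main_m3
import Cfsg.Agent.HZ.L.E7.Defs_m3
import Cfsg.Agent.HZ.L.SL.Defs_m3
import Cfsg.Agent.DL.CF.Uni_m3
import Cfsg.Agent.Prune
set_option linter.all false

section
prune_inst 0x7ffffdfeffafefffdfff7fbffedbfffc13838fffe6fefd43ffe9619f0bdf17b10dcf7f858df032fedef76234d0387853fb7eefffe86fdc7ffffdfff41ffbee0fa5e63508519c9cb40fbc2ff703f1778a6f3fffffffffffffffffffffffffffffffbdfbfeffff

-- part: HZ/L/U/Defs
section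
set_option linter.all false

/-!
# HZ/L, the exceptional types `G₂ F₄ ³D₄ E₆ ²E₆ E₈`: the label system (helper95)

Only the `2`-parts of the labels count.  `Loc Ψ` lists the lattice facts which are used, `Fam Ψ` : all Levi subsystems satisfy
`Loc`.  `Isg` : isogenies of odd degree (also conjugation by the Weyl group); they transport `Loc`.
-/

set_option autoImplicit false
set_option linter.unusedSectionVars false

namespace Cfsg.Agent.HZ.L.U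

open Cfsg Cfsg.Agent.DL Matrix

variable {R R' : Type} [Fintype R] [DecidableEq R] [Fintype R'] [DecidableEq R']

/-- the coroot lattice -/
def Qv (Ψ : RS R) : Submodule ℤ (Vec R) := Submodule.span ℤ (Prod.snd '' Ψ)

/-- the root lattice -/
def Qx (Ψ : RS R) : Submodule ℤ (Vec R) := Submodule.span ℤ (Prod.fst '' Ψ)

/-- trivial on the coroots -/
def Tv (Ψ : RS R) (c : Lb R) : Prop := ∀ a ∈ Ψ, chr a.2 c = 1

/-- equal on the central cocharacters -/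
def Ep (Ψ : RS R) (c c' : Lb R) : Prop := ∀ v, Perp Ψ v → chr v c = chr v c'

/-- semisimple -/
def Top (Ψ : RS R) : Prop := ∀ v, Perp Ψ v → v = 0

/-- `E₇` or semisimple -/
def T4 (Ψ : RS R) : Prop := Ψ.ncard = 126 ∨ Top Ψ

/-- the elements of the coroot lattice which are divisible by two modulo the centre -/
def Q2 (Ψ : RS R) (q : Vec R) : Prop := q ∈ Qv Ψ ∧ ∃ y, Perp Ψ ((2 : ℤ) • y - q)

def N4 (Ψ : RS R) (d : Lb R) : Prop := ∀ q, Q2 Ψ q → chr q d = 1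

/-- central for a Levi subsystem of type `E₆` -/
def A2 (Ψ : RS R) (d : Lb R) : Prop := ∃ lam, (lev Ψ lam).ncard = 72 ∧ Tv (lev Ψ lam) d

/-- an involution modulo the centre for `E₇` or for the whole semisimple system -/
def A4 (Ψ : RS R) (d : Lb R) : Prop := ∃ lam, T4 (lev Ψ lam) ∧ N4 (lev Ψ lam) d

/-- the relation on `2`-labels -/
def rel0 (Ψ : RS R) (c c' : Lb R) : Prop := Cj Ψ (c ^ 4) (c' ^ 4) ∧ Ep Ψ c c' ∧
  (A4 Ψ (c ^ 2) ∧ A4 Ψ (c' ^ 2) ∨ Cj Ψ (c ^ 2) (c' ^ 2) ∧ (A2 Ψ (c ^ 2) ∨ Cj Ψ c c'))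

/-- the character `η / n` is isolated -/
def IX (Ψ : RS R) (n : ℤ) (η : Vec R) : Prop := ∀ lam, (∀ a ∈ Ψ, n ∣ η ⬝ᵥ a.2 → a.1 ⬝ᵥ lam = 0) → Perp Ψ lam

/-- the cocharacter `x / n` is isolated -/
def IY (Ψ : RS R) (n : ℤ) (x : Vec R) : Prop := ∀ lam, (∀ a ∈ Ψ, n ∣ a.1 ⬝ᵥ x → a.1 ⬝ᵥ lam = 0) → Perp Ψ lam

/-- up to odd multiples and the centre `k • y` lies in the coroot lattice -/
def HK (Ψ : RS R) (k : ℤ) : Prop := ∀ y, ∃ m : ℤ, Odd m ∧ ∃ q ∈ Qv Ψ, Perp Ψ ((k * m) • y - q)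

/-- components of type `A₁` -/
def Ev (Ψ : RS R) (a : Vec R × Vec R) : Prop := ∀ b ∈ Ψ, Even (a.1 ⬝ᵥ b.2)

/-- `E₆` and `E₆ A₁` -/
def S6 (Ψ : RS R) : Prop := ∃ lam, (lev Ψ lam).ncard = 72 ∧ HK (lev Ψ lam) 1 ∧ Ex {a | a ∈ Ψ ∧ Ev Ψ a} ∧
  ∀ a ∈ Ψ, (a.1 ⬝ᵥ lam = 0 ↔ ¬ Ev Ψ a) ∧ (Ev Ψ a → ∀ b ∈ lev Ψ lam, a.1 ⬝ᵥ b.2 = 0 ∧ b.1 ⬝ᵥ a.2 = 0)

/-- `E₇` in `E₈` -/
def S7 (Ψ : RS R) (lam : Vec R) : Prop := ∃ θ ∈ Ψ, (∀ y, (2 : ℤ) • y - (θ.1 ⬝ᵥ y) • θ.2 ∈ Qv (lev Ψ lam)) ∧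
  ∀ a ∈ Ψ, (a.1 ⬝ᵥ lam = 0 ↔ a.1 ⬝ᵥ θ.2 = 0) ∧ (a.1 ⬝ᵥ lam = 0 → θ.1 ⬝ᵥ a.2 = 0 ∧ ¬ Ev (lev Ψ lam) a) ∧
    (a.1 ⬝ᵥ lam = 0 ∨ a = θ ∨ a = -θ ∨ θ.1 ⬝ᵥ a.2 = 1 ∨ θ.1 ⬝ᵥ a.2 = -1)

/-- **the lattice facts** -/
structure Loc (Ψ : RS R) : Prop where
  tf : ∀ x ∈ Qx Ψ, (∀ j, (2 : ℤ) ∣ x j) → ∃ y ∈ Qx Ψ, x = (2 : ℤ) • y
  lx : ∀ (e : ℕ) η, IX Ψ (2 ^ e) η → (∀ a ∈ Ψ, (2 : ℤ) ^ e ∣ 2 * (η ⬝ᵥ a.2)) ∨
    T4 Ψ ∧ ∀ q, Q2 Ψ q → (2 : ℤ) ^ e ∣ 2 * (η ⬝ᵥ q)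
  c6 : ∀ (e : ℕ) η, IX Ψ (2 ^ e) η → 72 ≤ {a | a ∈ Ψ ∧ (2 : ℤ) ^ e ∣ η ⬝ᵥ a.2}.ncard →
    (∀ a ∈ Ψ, (2 : ℤ) ^ e ∣ η ⬝ᵥ a.2) ∨ T4 Ψ ∧ ∀ q, Q2 Ψ q → (2 : ℤ) ^ e ∣ η ⬝ᵥ q
  y2 : ¬ T4 Ψ → ∀ (e : ℕ) x, IY Ψ (2 ^ e) x → ∀ a ∈ Ψ, (2 : ℤ) ^ e ∣ 2 * (a.1 ⬝ᵥ x)
  y4 : T4 Ψ → ∀ (e : ℕ) x, IY Ψ (2 ^ e) x → ∃ m : ℤ, Odd m ∧ ∃ q ∈ Qv Ψ, Perp Ψ ((4 * m) • x - (2 : ℤ) ^ e • q)
  h2 : T4 Ψ → Ψ.Nonempty ∧ HK Ψ 2
  c7 : ∀ lam, (lev Ψ lam).ncard = 126 → Perp Ψ lam ∨ Top Ψ ∧ S7 Ψ lam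
  b1 : Ex Ψ ∨ T4 Ψ ∨ S6 Ψ

/-- the admissible systems -/
def Fam (Ψ : RS R) : Prop := ∀ lam, Loc (lev Ψ lam)

/-- **the label system** -/
def L : LS where
  adm Ψ _ := Fam Ψ
  rel Ψ c c' := ∃ n, Odd n ∧ rel0 Ψ (c ^ n) (c' ^ n)
  ht _ _ _ := False

/-- `a'` corresponds to `a` -/
def Mt (P : Matrix R R' ℤ) (a' : Vec R' × Vec R') (a : Vec R × Vec R) : Prop := a'.1 = a.1 ᵥ* P ∧ P *ᵥ a'.2 = a.2

/-- an isogeny of odd degree; `P` maps the cocharacters of `Ψ'` to those of `Ψ` -/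
structure Isg (P : Matrix R R' ℤ) (Q : Matrix R' R ℤ) (z : ℤ) (Ψ' : RS R') (Ψ : RS R) : Prop where
  odd : Odd z
  PQ : P * Q = z • (1 : Matrix R R ℤ)
  QP : Q * P = z • (1 : Matrix R' R' ℤ)
  up : ∀ a' ∈ Ψ', ∃ a ∈ Ψ, Mt P a' a
  dn : ∀ a ∈ Ψ, ∃ a' ∈ Ψ', Mt P a' a

end Cfsg.Agent.HZ.L.U
end

-- part: HZ/L/CL/Defs
section
prune_inst 0x4010000
set_option linter.all false
open scoped Cfsg.Agent.FastGrp

/-!
# HZ/L, the symplectic and the spin groups: definitions and boxes (helper60)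

`J` gives the coordinates of a cocharacter in `ℤⁿ`.  `bb J c i` is the value of the label `c` at `2 eᵢ`, `yv J c` is the
complex vector with the coordinates `2 ph (bb J c i)`.  Two labels are related if their vectors are conjugate and if both or
none are `Gd`.
-/

set_option autoImplicit false
set_option linter.unusedSectionVars false

namespace Cfsg.Agent.HZ.L.CL

open Cfsg Cfsg.Agent.DL Cfsg.Agent.DL.PP Matrix Cfsg.Agent.KZ.Lie

variable {n : ℕ} {R : Type} [Fintype R] [DecidableEq R]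

/-- the vectors `± eᵢ` -/
def uv (i : Fin n) (s : ℤˣ) : Fin n → ℤ := Pi.single i (s : ℤ)

/-- all pairs (root, coroot) of the kind `κ` -/
def full (κ : Kd) (n : ℕ) : RS (Fin n) :=
  {r | (∃ i j, ∃ s t : ℤˣ, i ≠ j ∧ r = (uv i s + uv j t, uv i s + uv j t)) ∨
    ∃ i, ∃ s : ℤˣ, κ = .B ∧ r = (uv i s, (2 : ℤ) • uv i s) ∨ κ = .C ∧ r = ((2 : ℤ) • uv i s, uv i s)}

/-- the cocharacter lattice contains the vectors of even sum and the coroots -/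
structure Lat (κ : Kd) (J : Matrix (Fin n) R ℤ) : Prop where
  inj : ∀ v, J *ᵥ v = 0 → v = 0
  even : ∀ g : Fin n → ℤ, Even (∑ i, g i) → ∃ v, J *ᵥ v = g
  cor : ∀ r ∈ full κ n, ∃ v, J *ᵥ v = r.2

/-- `A` is the signed permutation `(π, s)` -/
def Sp (J : Matrix (Fin n) R ℤ) (A : Mat R) (π : Equiv.Perm (Fin n)) (s : Fin n → ℤˣ) : Prop :=
  ∀ v i, (J *ᵥ (A *ᵥ v)) (π i) = s i * (J *ᵥ v) i

/-- signed permutations -/
def SP (J : Matrix (Fin n) R ℤ) (A : Mat R) : Prop := ∃ π s, Sp J A π s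

/-- the Levi subsystem of `y` -/
def sub (κ : Kd) (J : Matrix (Fin n) R ℤ) (y : Fin n → ℤ) : RS R :=
  {a | ∃ r ∈ lev (full κ n) y, a.1 = r.1 ᵥ* J ∧ J *ᵥ a.2 = r.2}

/-- the columns are the vectors `2 eᵢ` -/
noncomputable def Hm (J : Matrix (Fin n) R ℤ) : Matrix R (Fin n) ℤ :=
  Matrix.of fun j i => Function.invFun J.mulVec (Pi.single i 2) j

/-- the values at `2 eᵢ` -/
noncomputable def bb (J : Matrix (Fin n) R ℤ) (c : Lb R) : Lb (Fin n) := pl (Hm J) c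

/-- an odd function which is injective except for `ph 1 = ph (-1) = 0` -/
noncomputable def ph (t : ℂˣ) : ℂ := ((t : ℂ) - 1) / ((t : ℂ) + 1)

/-- the vector of a label -/
noncomputable def yv (J : Matrix (Fin n) R ℤ) (c : Lb R) : R → ℂ :=
  (Hm J).map (Int.cast : ℤ → ℂ) *ᵥ fun i => ph (bb J c i)

/-- the vector of the label is central -/
def NC (Ψ : RS R) (J : Matrix (Fin n) R ℤ) (c : Lb R) : Prop := ∀ a ∈ Ψ, ev a.1 (yv J c) = 0

/-- admissible systems -/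
def Adm (κ : Kd) (J : Matrix (Fin n) R ℤ) (Ψ : RS R) (B : Mat R) : Prop := Lat κ J ∧ SP J B ∧ ∃ y, Ψ = sub κ J y

/-- related labels -/
def Rl (J : Matrix (Fin n) R ℤ) (Ψ : RS R) (c c' : Lb R) : Prop :=
  (∃ h ∈ WW Ψ, h.map (Int.cast : ℤ → ℂ) *ᵥ yv J c = yv J c') ∧ (Gd c ↔ Gd c')

/-- **the label system** -/
def L (κ : Kd) (Jf : ∀ R : Type, Matrix (Fin n) R ℤ) : LS :=
  ⟨fun Ψ B => Adm κ (Jf _) Ψ B, fun Ψ c c' => Rl (Jf _) Ψ c c', fun _ _ _ => False⟩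

/-- the type of a Levi subsystem -/
def BoxEx : Prop := ∀ (n : ℕ) (κ : Kd) (R : Type) [Fintype R] [DecidableEq R] (J : Matrix (Fin n) R ℤ) (y : Fin n → ℤ),
  Lat κ J → Iso (sub κ J y) (std κ fun i => (y i).natAbs)

/-- isolated `2`-elements -/
def BoxLF : Prop := ∀ (p : ℕ) [Fact p.Prime], p ≠ 2 → AllD p fun D => ∀ j B, St D j B →
  ∀ (n : ℕ) (κ : Kd) (J : Matrix (Fin n) D.R ℤ), Adm κ J (rts D) B → ∀ w c, Fx D w c → Gd c → NC (rts D) J c →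
    LF (rts D) D.Mx (D.Wm w) c

/-- **the result for the top data** -/
def Top : Prop := ∀ (p : ℕ) [Fact p.Prime], p ≠ 2 → AllD p fun {_ _ _ _ _ _ _ _ _ _ F G} D _ => ∀ j B, St D j B →
  ∀ (n : ℕ) (κ : Kd) (J : Matrix (Fin n) D.R ℤ), Adm κ J (rts D) B → ∀ M, IsPModular 2 M → HH M ↥(GF F G)

theorem top_of (h : Pk) (hF : ∀ (p : ℕ) [Fact p.Prime], p ≠ 2 → ∀ (n : ℕ) (κ : Kd) (Jf : ∀ R : Type, Matrix (Fin n) R ℤ),
    Fm p (L κ Jf)) : Top := by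
  classical
  intro p _ hp k _ _ _ Y _ N _ _ ρ F G D _ j B hS n κ J hA
  refine h.res hp (hF p hp n κ (Function.update (fun _ => 0) D.R J)) D j B hS ?_
  change Adm κ (Function.update (fun R : Type => (0 : Matrix (Fin n) R ℤ)) D.R J D.R) (rts D) B
  rw [Function.update_self]
  exact hA

end Cfsg.Agent.HZ.L.CL
end

-- part: HZ/L/CL/Ex
section
prune_inst 0x20100501000200000400124000188787000190100b800060e60e420684e8200803a62040001010881c905c38300048110001290228000020003600411f05a198a00202300002040c008f80a883190c00000000000000000000000000000004204010000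
set_option linter.all false
open scoped Cfsg.Agent.FastGrp

/-!
# HZ/L, the symplectic and the spin groups: the type of a Levi subsystem (helper67)
-/

set_option autoImplicit false
set_option linter.unusedSectionVars false

namespace Cfsg.Agent.HZ.L.CL.ExB

open Matrix

section gen

variable {R R' R'' : Type} [Fintype R] [Fintype R'] [Fintype R'']

theorem iso_of {Ψ : RS R} {Ψ' : RS R'} (f : Vec R × Vec R → Vec R' × Vec R') (h : Set.BijOn f Ψ Ψ')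
    (h' : ∀ a ∈ Ψ, ∀ b ∈ Ψ, (f a).1 ⬝ᵥ (f b).2 = a.1 ⬝ᵥ b.2) : Iso Ψ Ψ' :=
  ⟨h.equiv f, fun a b => h' a a.2 b b.2⟩

theorem iso_symm {Ψ : RS R} {Ψ' : RS R'} (h : Iso Ψ Ψ') : Iso Ψ' Ψ := by
  obtain ⟨φ, h⟩ := h
  exact ⟨φ.symm, fun a b => by rw [← h, φ.apply_symm_apply, φ.apply_symm_apply]⟩

theorem iso_trans {Ψ : RS R} {Ψ' : RS R'} {Ψ'' : RS R''} (h : Iso Ψ Ψ') (h' : Iso Ψ' Ψ'') : Iso Ψ Ψ'' := by
  obtain ⟨φ, h⟩ := h
  obtain ⟨ψ, h'⟩ := h'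
  exact ⟨φ.trans ψ, fun a b => (h' _ _).trans (h a b)⟩

end gen

variable {n : ℕ} {R : Type} [Fintype R] [DecidableEq R] {κ : Kd}

theorem iso_sub {J : Matrix (Fin n) R ℤ} (h : Lat κ J) (y : Fin n → ℤ) : Iso (lev (full κ n) y) (sub κ J y) := by
  have h1 : ∀ r ∈ lev (full κ n) y, J *ᵥ Function.invFun J.mulVec r.2 = r.2 := fun r hr =>
    Function.invFun_eq (f := J.mulVec) (h.cor r hr.1)
  have h2 : ∀ v w, J *ᵥ v = J *ᵥ w → v = w := fun v w e => sub_eq_zero.1 (h.inj _ (by rw [mulVec_sub, e, sub_self]))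
  refine iso_of (fun r => (r.1 ᵥ* J, Function.invFun J.mulVec r.2)) ⟨fun r hr => ⟨r, hr, rfl, h1 r hr⟩, ?_, ?_⟩
    fun a _ b hb => by rw [← dotProduct_mulVec, h1 b hb]
  · intro a ha b hb e
    obtain ⟨e1, e2⟩ := Prod.mk.inj e
    refine Prod.ext (funext fun i => ?_) (by rw [← h1 a ha, e2, h1 b hb])
    obtain ⟨v, hv⟩ := h.even (Pi.single i 2) (by simp only [_root_.Finset.sum_pi_single', _root_.Finset.mem_univ, ↓ _root_.reduceIte, _root_.even_two])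
    have h3 := congrArg (· ⬝ᵥ v) e1
    simp only [← dotProduct_mulVec, hv, dotProduct_single] at h3
    omega
  · rintro a ⟨r, hr, e1, e2⟩
    exact ⟨r, hr, Prod.ext e1.symm (h2 _ _ ((h1 r hr).trans e2.symm))⟩

/-- change of signs -/
def sg (σ : Fin n → ℤˣ) (v : Fin n → ℤ) : Fin n → ℤ := fun i => σ i * v i

theorem sg_sg (σ : Fin n → ℤˣ) (v : Fin n → ℤ) : sg σ (sg σ v) = v := funext fun i => by
  rw [sg, sg, ← mul_assoc, ← Units.val_mul, Int.units_mul_self, Units.val_one, one_mul]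

theorem sg_dot (σ : Fin n → ℤˣ) (v w : Fin n → ℤ) : sg σ v ⬝ᵥ w = v ⬝ᵥ sg σ w :=
  Finset.sum_congr rfl fun i _ => by simp only [sg]; ring

theorem sg_uv (σ : Fin n → ℤˣ) (i : Fin n) (s : ℤˣ) : sg σ (uv i s) = uv i (σ i * s) := funext fun j => by
  by_cases h : j = i
  · subst h
    simp [sg, uv]
  · simp [sg, uv, h]

theorem sg_add (σ : Fin n → ℤˣ) (v w : Fin n → ℤ) : sg σ (v + w) = sg σ v + sg σ w := funext fun _ => mul_add _ _ _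

theorem sg_two (σ : Fin n → ℤˣ) (v : Fin n → ℤ) : sg σ ((2 : ℤ) • v) = (2 : ℤ) • sg σ v := by
  rw [two_smul, two_smul, sg_add]

theorem full_sg (σ : Fin n → ℤˣ) {r : Vec (Fin n) × Vec (Fin n)} (h : r ∈ full κ n) : (sg σ r.1, sg σ r.2) ∈ full κ n := by
  rcases h with ⟨i, j, s, t, h, rfl⟩ | ⟨i, s, ⟨h, rfl⟩ | ⟨h, rfl⟩⟩
  · exact .inl ⟨i, j, σ i * s, σ j * t, h, by simp only [sg_add, sg_uv]⟩
  · exact .inr ⟨i, σ i * s, .inl ⟨h, by simp only [sg_two, sg_uv]⟩⟩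
  · exact .inr ⟨i, σ i * s, .inr ⟨h, by simp only [sg_two, sg_uv]⟩⟩

theorem iso_sg (σ : Fin n → ℤˣ) (y : Fin n → ℤ) : Iso (lev (full κ n) y) (lev (full κ n) (sg σ y)) := by
  refine iso_of (fun r => (sg σ r.1, sg σ r.2)) ⟨fun r hr => ⟨full_sg σ hr.1, ?_⟩, ?_, fun r hr => ?_⟩
    fun a _ b _ => by rw [sg_dot, sg_sg]
  · show sg σ r.1 ⬝ᵥ sg σ y = 0
    rw [sg_dot, sg_sg, hr.2]
  · intro a _ b _ e
    obtain ⟨e1, e2⟩ := Prod.mk.inj e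
    exact Prod.ext (by rw [← sg_sg σ a.1, e1, sg_sg]) (by rw [← sg_sg σ a.2, e2, sg_sg])
  · exact ⟨(sg σ r.1, sg σ r.2), ⟨full_sg σ hr.1, (sg_dot σ _ _).trans hr.2⟩, Prod.ext (sg_sg _ _) (sg_sg _ _)⟩

theorem uv_dot (i : Fin n) (s : ℤˣ) (y : Fin n → ℤ) : uv i s ⬝ᵥ y = s * y i := single_dotProduct _ _ _

theorem uv_sub (i j : Fin n) : (Pi.single i 1 - Pi.single j 1 : Fin n → ℤ) = uv i 1 + uv j (-1) := by
  simp only [uv, Units.val_one, Units.val_neg, Pi.single_neg, sub_eq_add_neg]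

theorem uv_two (i : Fin n) (s : ℤˣ) : (Pi.single i (2 * s : ℤ) : Fin n → ℤ) = (2 : ℤ) • uv i s := by
  rw [uv, ← Pi.single_smul, smul_eq_mul]

theorem std_eq (b : Fin n → ℕ) : lev (full κ n) (fun i => (b i : ℤ)) = std κ b := by
  ext r
  constructor
  · rintro ⟨⟨i, j, s, t, h, rfl⟩ | ⟨i, s, ⟨h, rfl⟩ | ⟨h, rfl⟩⟩, h0⟩
    · simp only [add_dotProduct, uv_dot] at h0
      rcases Int.units_eq_one_or s with rfl | rfl <;> rcases Int.units_eq_one_or t with rfl | rfl <;>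
        simp only [Units.val_one, Units.val_neg] at h0
      · exact .inr (.inl ⟨i, j, 1, h, by omega, by omega, rfl⟩)
      · exact .inl ⟨i, j, h, by omega, by rw [uv_sub]⟩
      · exact .inl ⟨j, i, h.symm, by omega, by rw [uv_sub, add_comm]⟩
      · exact .inr (.inl ⟨i, j, -1, h, by omega, by omega, rfl⟩)
    · simp only [uv_dot, mul_eq_zero, Units.ne_zero, false_or, Nat.cast_eq_zero] at h0
      exact .inr (.inr ⟨i, s, h0, .inl ⟨h, by rw [uv_two]; rfl⟩⟩)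
    · simp only [smul_dotProduct, uv_dot, smul_eq_mul, mul_eq_zero, Units.ne_zero, false_or, Nat.cast_eq_zero,
        OfNat.ofNat_ne_zero] at h0
      exact .inr (.inr ⟨i, s, h0, .inr ⟨h, by rw [uv_two]; rfl⟩⟩)
  · rintro (⟨i, j, h, e, rfl⟩ | ⟨i, j, s, h, e, e', rfl⟩ | ⟨i, s, e, ⟨h, rfl⟩ | ⟨h, rfl⟩⟩)
    · exact ⟨.inl ⟨i, j, 1, -1, h, by rw [uv_sub]⟩, by simp only [e, _root_.sub_dotProduct, _root_.single_dotProduct, _root_.one_mul, _root_.sub_self]⟩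
    · exact ⟨.inl ⟨i, j, s, s, h, rfl⟩, by simp only [e, e', _root_.add_dotProduct, _root_.single_dotProduct, _root_.CharP.cast_eq_zero, _root_.MulZeroClass.mul_zero, _root_.add_zero]⟩
    · exact ⟨.inr ⟨i, s, .inl ⟨h, by rw [uv_two]; rfl⟩⟩, by simp only [e, _root_.single_dotProduct, _root_.CharP.cast_eq_zero, _root_.MulZeroClass.mul_zero]⟩
    · exact ⟨.inr ⟨i, s, .inr ⟨h, by rw [uv_two]; rfl⟩⟩, by simp only [e, _root_.single_dotProduct, _root_.CharP.cast_eq_zero, _root_.MulZeroClass.mul_zero]⟩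

end Cfsg.Agent.HZ.L.CL.ExB

/-- **the type of a Levi subsystem** -/
theorem Cfsg.Agent.HZ.L.CL.boxEx : Cfsg.Agent.HZ.L.CL.BoxEx := by
  intro n κ R _ _ J y h
  have h1 := Cfsg.Agent.HZ.L.CL.ExB.iso_sg (κ := κ) (fun i => if y i < 0 then -1 else 1) y
  have h2 : Cfsg.Agent.HZ.L.CL.ExB.sg (fun i => if y i < 0 then -1 else 1) y = fun i => ((y i).natAbs : ℤ) := by
    funext i
    simp only [Cfsg.Agent.HZ.L.CL.ExB.sg]
    split_ifs <;> simp only [Units.val_neg, Units.val_one] <;> omega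
  rw [h2, Cfsg.Agent.HZ.L.CL.ExB.std_eq] at h1
  exact Cfsg.Agent.HZ.L.CL.ExB.iso_trans (Cfsg.Agent.HZ.L.CL.ExB.iso_symm (Cfsg.Agent.HZ.L.CL.ExB.iso_sub h y)) h1

private theorem dce_d9901617b45e : _root_.True := by
  try have : _root_.True := by simp only [_root_.Cfsg.Agent.HZ.L.CL.ExB.sg.eq_1]
  try have : _root_.True := by simp only [_root_.Cfsg.Agent.HZ.L.CL.uv.eq_1]
  exact _root_.True.intro
end

-- part: HZ/L/E7/Ex
section
prune_inst 0x1005010002000004001200000081050001900000800068a60642020440200803a10048001000081c9200180000081100002002300000000030000007052198084200020003040c0089802083590c00000000000000000000000000000004204010000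
set_option linter.all false
open scoped Cfsg.Agent.FastGrp

/-!
# HZ/L/E7: the standard Levi subsystems of `E₈` without `E₆` are of exact type (helper67)

For each missing node `c < 6` the other simple roots are mapped isometrically to roots of `D₁₀` by `T c`.
-/

set_option autoImplicit false
set_option linter.unusedSectionVars false
set_option maxRecDepth 100000
set_option synthInstance.maxSize 4096
set_option synthInstance.maxHeartbeats 200000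

namespace Cfsg.Agent.HZ.L.E7.ExB

open Matrix Cfsg.Agent.HZ.L.CL Cfsg.Agent.HZ.L.CL.ExB

/-- the images of the simple roots -/
def TL : List (List (List ℤ)) :=
  [[[0, 1, -1, 0, 0, 0, 0, 0], [0, 1, 1, -1, 0, 0, 0, 0], [0, 0, 0, 1, -1, 0, 0, 0], [0, 0, 0, 0, 1, -1, 0, 0], [0, 0,
  0, 0, 0, 1, -1, 0], [0, 0, 0, 0, 0, 0, 1, -1], [0, 0, 0, 0, 0, 0, 0, 1], [0, 0, 0, 0, 0, 0, 0, 0], [0, 0, 0, 0, 0,
  0, 0, 0], [0, 0, 0, 0, 0, 0, 0, 0]], [[-1, 0, 0, 0, 0, 0, 0, 0], [1, 0, -1, 0, 0, 0, 0, 0], [0, 0, 1, -1, 0, 0, 0,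
  0], [0, 0, 0, 1, -1, 0, 0, 0], [0, 0, 0, 0, 1, -1, 0, 0], [0, 0, 0, 0, 0, 1, -1, 0], [0, 0, 0, 0, 0, 0, 1, -1], [0,
  0, 0, 0, 0, 0, 0, 1], [0, 0, 0, 0, 0, 0, 0, 0], [0, 0, 0, 0, 0, 0, 0, 0]], [[-1, 0, 0, 0, 0, 0, 0, 0], [1, 0, 0, 0,
  0, 0, 0, 0], [0, -1, 0, 0, 0, 0, 0, 0], [0, 1, 0, -1, 0, 0, 0, 0], [0, 0, 0, 1, -1, 0, 0, 0], [0, 0, 0, 0, 1, -1, 0,
  0], [0, 0, 0, 0, 0, 1, -1, 0], [0, 0, 0, 0, 0, 0, 1, -1], [0, 0, 0, 0, 0, 0, 0, 1], [0, 0, 0, 0, 0, 0, 0, 0]], [[-1,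
  0, 0, 0, 0, 0, 0, 0], [1, 0, -1, 0, 0, 0, 0, 0], [0, 0, 1, 0, 0, 0, 0, 0], [0, -1, 0, 0, 0, 0, 0, 0], [0, 1, 0, 0,
  0, 0, 0, 0], [0, 0, 0, 0, -1, 0, 0, 0], [0, 0, 0, 0, 1, -1, 0, 0], [0, 0, 0, 0, 0, 1, -1, 0], [0, 0, 0, 0, 0, 0, 1,
  -1], [0, 0, 0, 0, 0, 0, 0, 1]], [[-1, 0, 0, 0, 0, 0, 0, 0], [1, 0, -1, 0, 0, 0, 0, 0], [0, 0, 1, -1, 0, 0, 0, 0],
  [0, -1, 0, 1, 0, 0, 0, 0], [0, 1, 0, 0, 0, 0, 0, 0], [0, 0, 0, 0, 0, -1, 0, 0], [0, 0, 0, 0, 0, 1, -1, 0], [0, 0, 0,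
  0, 0, 0, 1, -1], [0, 0, 0, 0, 0, 0, 0, 1], [0, 0, 0, 0, 0, 0, 0, 0]], [[0, 1, 0, 0, -1, 0, 0, 0], [0, 1, 0, -1, 1,
  0, 0, 0], [0, 0, -1, 1, 0, 0, 0, 0], [-1, 0, 1, 0, 0, 0, 0, 0], [1, 0, 0, 0, 0, 0, 0, 0], [0, 0, 0, 0, 0, 0, -1, 0],
  [0, 0, 0, 0, 0, 0, 1, -1], [0, 0, 0, 0, 0, 0, 0, 1], [0, 0, 0, 0, 0, 0, 0, 0], [0, 0, 0, 0, 0, 0, 0, 0]]]

/-- the doubled fundamental weights -/
def SL : List (List (List ℤ)) :=
  [[[0, 0, 0, 0, 0, 0, 0, 0, 0, 0], [1, 1, 1, 1, 1, 1, 1, 0, 0, 0], [-1, 1, 1, 1, 1, 1, 1, 0, 0, 0], [0, 0, 2, 2, 2,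
  2, 2, 0, 0, 0], [0, 0, 0, 2, 2, 2, 2, 0, 0, 0], [0, 0, 0, 0, 2, 2, 2, 0, 0, 0], [0, 0, 0, 0, 0, 2, 2, 0, 0, 0], [0,
  0, 0, 0, 0, 0, 2, 0, 0, 0]], [[0, 2, 2, 2, 2, 2, 2, 2, 0, 0], [0, 0, 0, 0, 0, 0, 0, 0, 0, 0], [0, 0, 2, 2, 2, 2, 2,
  2, 0, 0], [0, 0, 0, 2, 2, 2, 2, 2, 0, 0], [0, 0, 0, 0, 2, 2, 2, 2, 0, 0], [0, 0, 0, 0, 0, 2, 2, 2, 0, 0], [0, 0, 0,
  0, 0, 0, 2, 2, 0, 0], [0, 0, 0, 0, 0, 0, 0, 2, 0, 0]], [[0, 2, 0, 0, 0, 0, 0, 0, 0, 0], [0, 0, 0, 2, 2, 2, 2, 2, 2,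
  0], [0, 0, 0, 0, 0, 0, 0, 0, 0, 0], [0, 0, 0, 0, 2, 2, 2, 2, 2, 0], [0, 0, 0, 0, 0, 2, 2, 2, 2, 0], [0, 0, 0, 0, 0,
  0, 2, 2, 2, 0], [0, 0, 0, 0, 0, 0, 0, 2, 2, 0], [0, 0, 0, 0, 0, 0, 0, 0, 2, 0]], [[0, 2, 2, 0, 0, 0, 0, 0, 0, 0],
  [0, 0, 0, 0, 2, 0, 0, 0, 0, 0], [0, 0, 2, 0, 0, 0, 0, 0, 0, 0], [0, 0, 0, 0, 0, 0, 0, 0, 0, 0], [0, 0, 0, 0, 0, 0,
  2, 2, 2, 2], [0, 0, 0, 0, 0, 0, 0, 2, 2, 2], [0, 0, 0, 0, 0, 0, 0, 0, 2, 2], [0, 0, 0, 0, 0, 0, 0, 0, 0, 2]], [[0,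
  2, 2, 2, 2, 0, 0, 0, 0, 0], [0, 0, 0, 0, 2, 0, 0, 0, 0, 0], [0, 0, 2, 2, 2, 0, 0, 0, 0, 0], [0, 0, 0, 2, 2, 0, 0, 0,
  0, 0], [0, 0, 0, 0, 0, 0, 0, 0, 0, 0], [0, 0, 0, 0, 0, 0, 2, 2, 2, 0], [0, 0, 0, 0, 0, 0, 0, 2, 2, 0], [0, 0, 0, 0,
  0, 0, 0, 0, 2, 0]], [[0, 0, 0, 0, 2, 0, 0, 0, 0, 0], [1, 1, 1, 1, 1, 0, 0, 0, 0, 0], [0, 0, 0, 2, 2, 0, 0, 0, 0, 0],
  [0, 0, 2, 2, 2, 0, 0, 0, 0, 0], [-1, 1, 1, 1, 1, 0, 0, 0, 0, 0], [0, 0, 0, 0, 0, 0, 0, 0, 0, 0], [0, 0, 0, 0, 0, 0,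
  2, 2, 0, 0], [0, 0, 0, 0, 0, 0, 0, 2, 0, 0]]]

/-- the blocks -/
def YL : List (List ℤ) :=
  [[0, 0, 0, 0, 0, 0, 0, 1, 2, 3], [1, 1, 1, 1, 1, 1, 1, 1, 2, 3], [1, 1, 2, 2, 2, 2, 2, 2, 2, 3], [1, 1, 1, 2, 2, 3,
  3, 3, 3, 3], [1, 1, 1, 1, 1, 2, 2, 2, 2, 3], [0, 0, 0, 0, 0, 1, 1, 1, 2, 3]]

/-- the embedding -/
def T (c : ℕ) : Matrix (Fin 10) (Fin 8) ℤ := Matrix.of fun i k => ((TL.getD c []).getD i []).getD k 0

/-- twice the left inverse -/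
def S (c : ℕ) : Matrix (Fin 8) (Fin 10) ℤ := Matrix.of fun k i => ((SL.getD c []).getD k []).getD i 0

/-- the central vector -/
def y0 (c : ℕ) : Fin 10 → ℤ := fun i => (YL.getD c []).getD i 0

/-- the coefficients of a root -/
def mm (c : ℕ) (i j : Fin 10) (s t : ℤ) : V := fun k => (S c k i * s + S c k j * t) / 2

private theorem _root_.Cfsg.Agent.KO1ca71f8.e0.{ku, kv} {α : Type kv} {M : List α → Sort ku} (φ : ∀ l, M l) {z : M List.nil} {s : ∀ a l, M l → M (List.cons a l)} (h0 : φ List.nil = z) (hs : ∀ a l, φ (List.cons a l) = s a l (φ l)) (l : List α) : φ l = @List.rec α M z s l := List.rec h0 (fun a l ih => (hs a l).trans (congrArg (s a l) ih)) l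
private noncomputable def _root_.Cfsg.Agent.KO1ca71f8.k2.{ku0, ku1} : type_of% @Multiset.foldr.{ku0, ku1} := @(fun x0 x1 x2 x3 x4 x5 => @Quot.lift.{(ku1+1), (ku0+1)} _ _ _ @(fun x6 => @List.foldr.{ku1, ku0} _ _ @x2 @x4 @x6) @(fun x6 x7 x8 => @List.Perm.foldr_eq.{ku1, ku0} _ _ _ _ _ _ @x8 @x4) @x5)
private theorem _root_.Cfsg.Agent.KO1ca71f8.e2.{ku0, ku1} : @Multiset.foldr.{ku0, ku1} = @_root_.Cfsg.Agent.KO1ca71f8.k2.{ku0, ku1} := by delta _root_.Cfsg.Agent.KO1ca71f8.k2; rfl'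
private noncomputable def _root_.Cfsg.Agent.KO1ca71f8.k4s : (by first | exact Subtype (fun g => @Multiset.sum.{0} (ℤ) _ = @g) | exact Unit : Sort _) := by first | (refine @Subtype.mk _ _ (@Cfsg.Agent.KO1ca71f8.k2.{0, 0} _ _ @(fun x0 x1 => @Int.add @x0 @x1) (@Multiset.sum._proof_1.{0} _ _) (@Int.ofNat (nat_lit 0))) ?_; rewrite [← Cfsg.Agent.KO1ca71f8.e2.{0, 0}]; (try delta Multiset.sum); with_reducible_and_instances rfl) | exact ⟨_, rfl⟩ | exact ()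
private noncomputable def _root_.Cfsg.Agent.KO1ca71f8.k4 : (by first | exact type_of% (@Subtype.val _ _ _root_.Cfsg.Agent.KO1ca71f8.k4s) | exact Unit : Sort _) := by first | exact @Subtype.val _ _ _root_.Cfsg.Agent.KO1ca71f8.k4s | exact ()
private theorem _root_.Cfsg.Agent.KO1ca71f8.e4 : (by first | exact type_of% (show _ = @_root_.Cfsg.Agent.KO1ca71f8.k4 from @Subtype.property _ _ _root_.Cfsg.Agent.KO1ca71f8.k4s) | exact True : Prop) := by first | exact @Subtype.property _ _ _root_.Cfsg.Agent.KO1ca71f8.k4s | trivial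
private noncomputable def _root_.Cfsg.Agent.KO1ca71f8.k7s : (by first | exact Subtype (fun g => @Finset.sum.{0, 0} (@Fin ((10 : ℕ))) (ℤ) _ = @g) | exact Unit : Sort _) := by first | (refine @Subtype.mk _ _ (@(fun x0 x1 => @Cfsg.Agent.KO1ca71f8.k4 (@Quot.lift.{1, 1} _ _ _ @(fun x2 => @Quot.mk.{1} _ (@Setoid.r.{1} _ _) (@List.map.{0, 0} _ _ @x1 @x2)) (@Multiset.map._proof_1.{0, 0} _ _ @x1) (@Finset.val.{0} _ @x0)))) ?_; rewrite [← Cfsg.Agent.KO1ca71f8.e4]; rfl') | exact ⟨_, rfl⟩ | exact ()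
private noncomputable def _root_.Cfsg.Agent.KO1ca71f8.k7 : (by first | exact type_of% (@Subtype.val _ _ _root_.Cfsg.Agent.KO1ca71f8.k7s) | exact Unit : Sort _) := by first | exact @Subtype.val _ _ _root_.Cfsg.Agent.KO1ca71f8.k7s | exact ()
private theorem _root_.Cfsg.Agent.KO1ca71f8.e7 : (by first | exact type_of% (show _ = @_root_.Cfsg.Agent.KO1ca71f8.k7 from @Subtype.property _ _ _root_.Cfsg.Agent.KO1ca71f8.k7s) | exact True : Prop) := by first | exact @Subtype.property _ _ _root_.Cfsg.Agent.KO1ca71f8.k7s | trivial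
private noncomputable def _root_.Cfsg.Agent.KO1ca71f8.k8 : type_of% @Int.mul := @(letI c0 := @Int.rec.{1}; letI c1 := @Int.ofNat; letI c2 := @Nat.mul; letI c3 := @Nat.rec.{1}; letI c4 := @Int.negSucc; letI c5 := @Nat.succ; @(fun x0 x1 => @c0 @(fun x2 => ℤ) @(fun x2 => @c0 @(fun x3 => ℤ) @(fun x3 => @c1 (@c2 @x2 @x3)) @(fun x3 => @c3 @(fun x4 => ℤ) (@c1 (nat_lit 0)) @(fun x4 x5 => @c4 @x4) (@c2 @x2 (@c5 @x3))) @x1) @(fun x2 => @c0 @(fun x3 => ℤ) @(fun x3 => @c3 @(fun x4 => ℤ) (@c1 (nat_lit 0)) @(fun x4 x5 => @c4 @x4) (@c2 (@c5 @x2) @x3)) @(fun x3 => @c1 (@c2 (@c5 @x2) (@c5 @x3))) @x1) @x0))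
private theorem _root_.Cfsg.Agent.KO1ca71f8.e8 : @Int.mul = @_root_.Cfsg.Agent.KO1ca71f8.k8 := by delta _root_.Cfsg.Agent.KO1ca71f8.k8; rfl'
private noncomputable def _root_.Cfsg.Agent.KO1ca71f8.k9s : (by first | exact Subtype (fun g => @HMul.hMul.{0, 0, 0} (ℤ) (ℤ) (ℤ) _ = @g) | exact Unit : Sort _) := by first | (refine @Subtype.mk _ _ (@(fun x0 x1 => @Cfsg.Agent.KO1ca71f8.k8 @x0 @x1)) ?_; rewrite [← Cfsg.Agent.KO1ca71f8.e8]; rfl') | exact ⟨_, rfl⟩ | exact ()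
private noncomputable def _root_.Cfsg.Agent.KO1ca71f8.k9 : (by first | exact type_of% (@Subtype.val _ _ _root_.Cfsg.Agent.KO1ca71f8.k9s) | exact Unit : Sort _) := by first | exact @Subtype.val _ _ _root_.Cfsg.Agent.KO1ca71f8.k9s | exact ()
private theorem _root_.Cfsg.Agent.KO1ca71f8.e9 : (by first | exact type_of% (show _ = @_root_.Cfsg.Agent.KO1ca71f8.k9 from @Subtype.property _ _ _root_.Cfsg.Agent.KO1ca71f8.k9s) | exact True : Prop) := by first | exact @Subtype.property _ _ _root_.Cfsg.Agent.KO1ca71f8.k9s | trivial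
private noncomputable def _root_.Cfsg.Agent.KO1ca71f8.k10 : type_of% @Decidable.decide := @(fun x0 x1 => @Decidable.rec.{1} _ @(fun x2 => @Bool) @(fun x2 => @Bool.false) @(fun x2 => @Bool.true) @x1)
private theorem _root_.Cfsg.Agent.KO1ca71f8.e10 : @Decidable.decide = @_root_.Cfsg.Agent.KO1ca71f8.k10 := by delta _root_.Cfsg.Agent.KO1ca71f8.k10; rfl'
private noncomputable def _root_.Cfsg.Agent.KO1ca71f8.k11l (n : Nat) (P : ∀ k, k < n → Prop) (H : ∀ k h, Decidable (P k h)) (m : Nat) : m ≤ n → Bool := @Nat.rec (fun m => m ≤ n → Bool) (fun _ => true) (fun k ih h => @Decidable.rec (P k h) (fun _ => Bool) (fun _ => false) (fun _ => ih (Nat.le_of_succ_le h)) (H k h)) m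
private theorem _root_.Cfsg.Agent.KO1ca71f8.k11ls (n : Nat) (P : ∀ k, k < n → Prop) (H : ∀ k h, Decidable (P k h)) (m : Nat) : ∀ h : m ≤ n, _root_.Cfsg.Agent.KO1ca71f8.k11l n P H m h = true ↔ ∀ k (g : k < m), P k (Nat.lt_of_lt_of_le g h) := by induction m with | zero => exact fun _ => ⟨fun _ _ g => absurd g (Nat.not_lt_zero _), fun _ => rfl⟩ | succ m ih => intro h; show @Decidable.rec (P m h) (fun _ => Bool) (fun _ => false) (fun _ => _root_.Cfsg.Agent.KO1ca71f8.k11l n P H m (Nat.le_of_succ_le h)) (H m h) = true ↔ _; cases H m h with | isFalse q => exact ⟨fun g => absurd g Bool.false_ne_true, fun g => absurd (g m (Nat.lt_succ_self m)) q⟩ | isTrue q => exact ⟨fun g k hk => (Nat.lt_succ_iff_lt_or_eq.1 hk).elim ((ih _).1 g k) fun e => by subst e; exact q, fun g => (ih _).2 fun k hk => g k (Nat.lt_succ_of_lt hk)⟩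
private noncomputable def _root_.Cfsg.Agent.KO1ca71f8.k11 (n : Nat) (P : ∀ k, k < n → Prop) (H : ∀ k h, Decidable (P k h)) : Decidable (∀ k h, P k h) := @Bool.rec (fun b => _root_.Cfsg.Agent.KO1ca71f8.k11l n P H n (Nat.le_refl n) = b → Decidable (∀ k h, P k h)) (fun g => isFalse fun q => Bool.false_ne_true (g.symm.trans ((_root_.Cfsg.Agent.KO1ca71f8.k11ls n P H n _).2 fun k h => q k h))) (fun g => isTrue fun k h => (_root_.Cfsg.Agent.KO1ca71f8.k11ls n P H n _).1 g k h) (_root_.Cfsg.Agent.KO1ca71f8.k11l n P H n (Nat.le_refl n)) rfl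
private theorem _root_.Cfsg.Agent.KO1ca71f8.e11 : @Nat.decidableBallLT = @_root_.Cfsg.Agent.KO1ca71f8.k11 := funext fun _ => funext fun _ => funext fun _ => Subsingleton.elim _ _
private noncomputable def _root_.Cfsg.Agent.KO1ca71f8.k12.{ku0, ku1} : type_of% @Quot.rec.{ku0, ku1} := @(fun x0 x1 x2 x3 x4 x5 => @Eq.rec.{ku1, ku0} (@Quot.{ku0} _ @x1) (@PSigma.fst.{ku0, ku1} _ _ (@Quot.lift.{ku0, (max (max 1 ku1) ku0)} _ _ _ (@Quot.indep.{ku0, ku1} _ _ _ @x3) (@Quot.indepCoherent.{ku0, ku1} _ _ _ @x3 @x4) @x5)) @(fun x6 x7 => @x2 @x6) (@PSigma.snd.{ku0, ku1} _ _ (@Quot.lift.{ku0, (max (max 1 ku1) ku0)} _ _ _ (@Quot.indep.{ku0, ku1} _ _ _ @x3) (@Quot.indepCoherent.{ku0, ku1} _ _ _ @x3 @x4) @x5)) @x5 (@Quot.liftIndepPr1.{ku0, ku1} _ _ _ @x3 @x4 @x5))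
private noncomputable def _root_.Cfsg.Agent.KO1ca71f8.k13.{ku0, ku1} : type_of% @Quot.recOnSubsingleton.{ku0, ku1} := @(fun x0 x1 x2 x3 x4 x5 => @Cfsg.Agent.KO1ca71f8.k12.{ku0, ku1} _ _ @(fun x6 => @x2 @x6) @(fun x6 => @x5 @x6) (@Quot.recOnSubsingleton._proof_1.{ku1, ku0} _ _ _ _ @x5) @x4)
private noncomputable def _root_.Cfsg.Agent.KO1ca71f8.k14.{ku0} : type_of% @List.decidableBAll.{ku0} := @(fun x0 x1 x2 x3 => @List.rec.{1, ku0} @x0 @(fun x4 => @Decidable ((x5 : @x0) → (@Membership.mem.{ku0, ku0} _ _ _ @x4 @x5) → @x1 @x5)) (@Decidable.isTrue _ (@List.decidableBAll._proof_1.{ku0} _ @x1)) @(fun x4 x5 x6 => @Decidable.rec.{1} _ @(fun x7 => @Decidable ((x8 : @x0) → (@Membership.mem.{ku0, ku0} _ _ _ (@x4 :: @x5) @x8) → @x1 @x8)) @(fun x7 => @Decidable.isFalse _ (@List.decidableBAll._proof_4.{ku0} _ @x1 @x4 @x5 @x7)) @(fun x7 => @Decidable.rec.{1} _ @(fun x8 => @Decidable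 ((x9 : @x0) → (@Membership.mem.{ku0, ku0} _ _ _ (@x4 :: @x5) @x9) → @x1 @x9)) @(fun x8 => @Decidable.isFalse _ (@List.decidableBAll._proof_3.{ku0} _ @x1 @x4 @x5 @x8)) @(fun x8 => @Decidable.isTrue _ (@List.decidableBAll._proof_2.{ku0} _ @x1 @x4 @x5 @x7 @x8)) @x6) (@x2 @x4)) @x3)
private theorem _root_.Cfsg.Agent.KO1ca71f8.e14.{ku0} : @List.decidableBAll.{ku0} = @_root_.Cfsg.Agent.KO1ca71f8.k14.{ku0} := by delta _root_.Cfsg.Agent.KO1ca71f8.k14; exact Subsingleton.elim _ _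
private noncomputable def _root_.Cfsg.Agent.KO1ca71f8.k15.{ku0} : type_of% @Multiset.decidableForallMultiset.{ku0} := @(fun (x0 : Sort (ku0+1)) (x1 : @Multiset.{ku0} @x0) (x2 : (x0 → Prop)) (x3 : ((x3 : x0) → @Decidable (@x2 @x3))) => @Cfsg.Agent.KO1ca71f8.k13.{(ku0+1), 1} (@List.{ku0} @x0) (@Setoid.r.{(ku0+1)} (@List.{ku0} @x0) (@List.isSetoid.{ku0} @x0)) @(fun (x4 : @Quotient.{(ku0+1)} (@List.{ku0} @x0) (@List.isSetoid.{ku0} @x0)) => @Decidable ((x5 : x0) → ((@Membership.mem.{ku0, ku0} @x0 (@Multiset.{ku0} @x0) (@Multiset.instMembership.{ku0} @x0) @x4 @x5) → @x2 @x5))) (@Multiset.decidableForallMultiset._proof_2.{ku0} @x0 @x2) @x1 @(fun (x4 : @List.{ku0} @x0) => @Decidable.rec.{1} ((x5 : x0) → ((@Membership.mem.{ku0, ku0} @x0 (@List.{ku0} @x0) (@List.instMembership.{ku0} @x0) @x4 @x5) → @x2 @x5)) @(fun (x5 : @Decidable ((x5 : x0) → ((@Membership.mem.{ku0, ku0}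 @x0 (@List.{ku0} @x0) (@List.instMembership.{ku0} @x0) @x4 @x5) → @x2 @x5))) => @Decidable ((x6 : x0) → ((@Membership.mem.{ku0, ku0} @x0 (@Multiset.{ku0} @x0) (@Multiset.instMembership.{ku0} @x0) (@Quotient.mk.{(ku0+1)} (@List.{ku0} @x0) (@List.isSetoid.{ku0} @x0) @x4) @x6) → @x2 @x6))) @(fun (x5 : @Not ((x5 : x0) → ((@Membership.mem.{ku0, ku0} @x0 (@List.{ku0} @x0) (@List.instMembership.{ku0} @x0) @x4 @x5) → @x2 @x5))) => @Decidable.isFalse ((x6 : x0) → ((@Membership.mem.{ku0, ku0} @x0 (@Multiset.{ku0} @x0) (@Multiset.instMembership.{ku0} @x0) (@Quotient.mk.{(ku0+1)} (@List.{ku0} @x0) (@List.isSetoid.{ku0} @x0) @x4) @x6) → @x2 @x6)) (@decidable_of_decidable_of_iff._proof_1 ((x6 : x0) → ((@Membership.mem.{ku0, ku0} @x0 (@List.{ku0} @x0) (@List.instMembership.{ku0} @x0) @x4 @x6) → @x2 @x6)) ((x6 : x0) → ((@Membership.mem.{ku0, ku0} @x0 (@Multiset.{ku0} @x0) (@Multiset.instMembership.{ku0}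 @x0) (@Quotient.mk.{(ku0+1)} (@List.{ku0} @x0) (@List.isSetoid.{ku0} @x0) @x4) @x6) → @x2 @x6)) (@Multiset.decidableForallMultiset._proof_1.{ku0} @x0 @x2 @x4) @x5)) @(fun (x5 : ((x5 : x0) → ((@Membership.mem.{ku0, ku0} @x0 (@List.{ku0} @x0) (@List.instMembership.{ku0} @x0) @x4 @x5) → @x2 @x5))) => @Decidable.isTrue ((x6 : x0) → ((@Membership.mem.{ku0, ku0} @x0 (@Multiset.{ku0} @x0) (@Multiset.instMembership.{ku0} @x0) (@Quotient.mk.{(ku0+1)} (@List.{ku0} @x0) (@List.isSetoid.{ku0} @x0) @x4) @x6) → @x2 @x6)) (@Iff.mp ((x6 : x0) → ((@Membership.mem.{ku0, ku0} @x0 (@List.{ku0} @x0) (@List.instMembership.{ku0} @x0) @x4 @x6) → @x2 @x6)) ((x6 : x0) → ((@Membership.mem.{ku0, ku0} @x0 (@Multiset.{ku0} @x0) (@Multiset.instMembership.{ku0} @x0) (@Quotient.mk.{(ku0+1)} (@List.{ku0} @x0) (@List.isSetoid.{ku0} @x0) @x4) @x6) → @x2 @x6)) (@Multiset.decidableForallMultiset._proof_1.{ku0}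 @x0 @x2 @x4) @x5)) (@Cfsg.Agent.KO1ca71f8.k14.{ku0} @x0 @x2 @x3 @x4)))
private noncomputable def _root_.Cfsg.Agent.KO1ca71f8.k19.{ku0} : type_of% @Multiset.decidableDforallMultiset.{ku0} := @(fun x0 x1 x2 x3 => @Decidable.rec.{1} _ @(fun x4 => @Decidable ((x5 : @x0) → (x6 : @Membership.mem.{ku0, ku0} _ _ _ @x1 @x5) → @x2 @x5 @x6)) @(fun x4 => @Decidable.isFalse _ (@decidable_of_decidable_of_iff._proof_1 _ _ (@Multiset.decidableDforallMultiset._proof_2.{ku0} _ _ _) @x4)) @(fun x4 => @Decidable.isTrue _ (@Iff.mp _ _ (@Multiset.decidableDforallMultiset._proof_2.{ku0} _ _ _) @x4)) (@Cfsg.Agent.KO1ca71f8.k15.{ku0} _ _ @(fun x4 => @x2 (@Subtype.val.{(ku0+1)} _ @(fun x5 => @Membership.mem.{ku0, ku0} _ _ _ @x1 @x5) @x4) (@Multiset.decidableDforallMultiset._proof_1.{ku0} _ _ @x4)) @(fun x4 => @x3 (@Subtype.val.{(ku0+1)} _ @(fun x5 => @Membership.mem.{ku0, ku0} _ _ _ @x1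 @x5) @x4) (@Multiset.decidableDforallMultiset._proof_1.{ku0} _ _ @x4))))
private noncomputable def _root_.Cfsg.Agent.KO1ca71f8.k20.{ku0} : type_of% @Finset.decidableDforallFinset.{ku0} := @(fun x0 x1 x2 x3 => @Cfsg.Agent.KO1ca71f8.k19.{ku0} _ _ _ @x3)
private noncomputable def _root_.Cfsg.Agent.KO1ca71f8.k21.{ku0} : type_of% @Fintype.decidableForallFintype.{ku0} := @(letI c0 := @Fintype.decidableForallFintype._proof_1.{ku0}; @(fun x0 x1 x2 x3 => @Decidable.rec.{1} _ @(fun x4 => @Decidable ((x5 : @x0) → @x1 @x5)) @(fun x4 => @Decidable.isFalse _ (@decidable_of_decidable_of_iff._proof_1 _ _ (@c0 _ _ _) @x4)) @(fun x4 => @Decidable.isTrue _ (@Iff.mp _ _ (@c0 _ _ _) @x4)) (@Cfsg.Agent.KO1ca71f8.k20.{ku0} _ _ @(fun x4 x5 => @x1 @x4) @(fun x4 x5 => @x2 @x4))))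
private theorem _root_.Cfsg.Agent.KO1ca71f8.e21.{ku0} : @Fintype.decidableForallFintype.{ku0} = @_root_.Cfsg.Agent.KO1ca71f8.k21.{ku0} := by delta _root_.Cfsg.Agent.KO1ca71f8.k21; exact Subsingleton.elim _ _
private noncomputable def _root_.Cfsg.Agent.KO1ca71f8.k22 : type_of% @instDecidableAnd := @(fun x0 x1 x2 x3 => @Decidable.rec.{1} _ @(fun x4 => @Decidable (@And @x0 @x1)) @(fun x4 => @Decidable.isFalse _ (@instDecidableAnd._proof_2 _ _ @x4)) @(fun x4 => @Decidable.rec.{1} _ @(fun x5 => @Decidable (@And @x0 @x1)) @(fun x5 => @Decidable.isFalse _ (@instDecidableAnd._proof_1 _ _ @x5)) @(fun x5 => @Decidable.isTrue _ (@And.intro _ _ @x4 @x5)) @x3) @x2)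
private theorem _root_.Cfsg.Agent.KO1ca71f8.e22 : @instDecidableAnd = @_root_.Cfsg.Agent.KO1ca71f8.k22 := by delta _root_.Cfsg.Agent.KO1ca71f8.k22; exact Subsingleton.elim _ _
private noncomputable def _root_.Cfsg.Agent.KO1ca71f8.k23 : type_of% @forall_prop_decidable := @(fun x0 x1 x2 x3 => @Decidable.rec.{1} _ @(fun x4 => @Decidable ((x5 : @x0) → @x1 @x5)) @(fun x4 => @Decidable.isTrue _ (@forall_prop_decidable._proof_2 _ @x1 @x4)) @(fun x4 => @Decidable.rec.{1} _ @(fun x5 => @Decidable ((x6 : @x0) → @x1 @x6)) @(fun x5 => @Decidable.isFalse _ (@decidable_of_decidable_of_iff._proof_1 _ _ (@forall_prop_decidable._proof_1 _ @x1 @x4) @x5)) @(fun x5 => @Decidable.isTrue _ (@Iff.mp _ _ (@forall_prop_decidable._proof_1 _ @x1 @x4) @x5)) (@x3 @x4)) @x2)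
private theorem _root_.Cfsg.Agent.KO1ca71f8.e23 : @forall_prop_decidable = @_root_.Cfsg.Agent.KO1ca71f8.k23 := by delta _root_.Cfsg.Agent.KO1ca71f8.k23; exact Subsingleton.elim _ _
private noncomputable def _root_.Cfsg.Agent.KO1ca71f8.k24 : type_of% @instDecidableNot := @(fun x0 x1 => @Decidable.rec.{1} _ @(fun x2 => @Decidable (¬ @x0)) @(fun x2 => @Decidable.isTrue _ @x2) @(fun x2 => @Decidable.isFalse _ (@absurd.{0} _ _ @x2)) @x1)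
private theorem _root_.Cfsg.Agent.KO1ca71f8.e24 : @instDecidableNot = @_root_.Cfsg.Agent.KO1ca71f8.k24 := by delta _root_.Cfsg.Agent.KO1ca71f8.k24; exact Subsingleton.elim _ _
private noncomputable def _root_.Cfsg.Agent.KO1ca71f8.k25 : type_of% @Nat.decEq := @(letI c0 := @Nat.beq; @(fun x0 x1 => @Bool.rec.{1} @(fun x2 => (@Eq.{1} _ (@c0 @x0 @x1) @x2) → @Decidable (@Eq.{1} _ @x0 @x1)) @(fun x2 => @Decidable.isFalse _ (@Nat.ne_of_beq_eq_false _ _ @x2)) @(fun x2 => @Decidable.isTrue _ (@Nat.eq_of_beq_eq_true _ _ @x2)) (@c0 @x0 @x1) (@Eq.refl.{1} _ (@c0 @x0 @x1))))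
private noncomputable def _root_.Cfsg.Agent.KO1ca71f8.k26 : type_of% @instDecidableEqNat := @Cfsg.Agent.KO1ca71f8.k25
private theorem _root_.Cfsg.Agent.KO1ca71f8.e26 : @instDecidableEqNat = @_root_.Cfsg.Agent.KO1ca71f8.k26 := by delta _root_.Cfsg.Agent.KO1ca71f8.k26; exact Subsingleton.elim _ _
private noncomputable def _root_.Cfsg.Agent.KO1ca71f8.k27 : type_of% @Int.decEq := @(letI c0 := @Int.rec.{1}; letI c1 := @Int.ofNat; letI c2 := @Decidable.rec.{1}; letI c3 := @Decidable.isFalse; letI c4 := @Decidable.isTrue; letI c5 := @Int.negSucc; @(fun x0 x1 => @c0 @(fun x2 => @Decidable (@Eq.{1} _ @x2 @x1)) @(fun x2 => @c0 @(fun x3 => @Decidable (@Eq.{1} _ (@c1 @x2) @x3)) @(fun x3 => @c2 _ @(fun x4 => @Decidable (@Eq.{1} _ (@c1 @x2) (@c1 @x3))) @(fun x4 => @c3 _ (@Int.decEq._proof_2 @x2 @x3 @x4)) @(fun x4 => @c4 _ (@Int.decEq._proof_1 @x2 @x3 @x4)) (@Cfsg.Agent.KO1ca71f8.k25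 @x2 @x3)) @(fun x3 => @c3 _ (@Int.decEq._proof_3 @x2 @x3)) @x1) @(fun x2 => @c0 @(fun x3 => @Decidable (@Eq.{1} _ (@c5 @x2) @x3)) @(fun x3 => @c3 _ (@Int.decEq._proof_4 @x2 @x3)) @(fun x3 => @c2 _ @(fun x4 => @Decidable (@Eq.{1} _ (@c5 @x2) (@c5 @x3))) @(fun x4 => @c3 _ (@Int.decEq._proof_6 @x2 @x3 @x4)) @(fun x4 => @c4 _ (@Int.decEq._proof_5 @x2 @x3 @x4)) (@Cfsg.Agent.KO1ca71f8.k25 @x2 @x3)) @x1) @x0))
private noncomputable def _root_.Cfsg.Agent.KO1ca71f8.k28 : type_of% @Int.instDecidableEq := @Cfsg.Agent.KO1ca71f8.k27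
private theorem _root_.Cfsg.Agent.KO1ca71f8.e28 : @Int.instDecidableEq = @_root_.Cfsg.Agent.KO1ca71f8.k28 := by delta _root_.Cfsg.Agent.KO1ca71f8.k28; exact Subsingleton.elim _ _
private noncomputable def _root_.Cfsg.Agent.KO1ca71f8.k30.{ku0} : type_of% @List.get?Internal.{ku0} := @(fun x0 x1 x2 => @List.rec.{(ku0+1), ku0} @x0 @(fun x3 => ℕ → @Option.{ku0} @x0) @(fun x3 => @Option.none.{ku0} _) @(fun x3 x4 x5 x6 => @Nat.rec.{(ku0+1)} @(fun x7 => @Option.{ku0} @x0) (@Option.some.{ku0} _ @x3) @(fun x7 x8 => @x5 @x7) @x6) @x1 @x2)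
private theorem _root_.Cfsg.Agent.KO1ca71f8.e30.{ku0} : @List.get?Internal.{ku0} = @_root_.Cfsg.Agent.KO1ca71f8.k30.{ku0} := by delta _root_.Cfsg.Agent.KO1ca71f8.k30; funext a0 a1 a2; refine (congrFun (_root_.Cfsg.Agent.KO1ca71f8.e0 (fun a1 a2 => @List.get?Internal.{ku0} a0 a1 a2) ?_ (fun c0 c1 => ?_) a1) a2 :) <;> [(funext b0; (rfl')); (funext b0; (cases b0 with | @zero  => (rfl') | @succ b0_0 => (rfl')))]
private noncomputable def _root_.Cfsg.Agent.KO1ca71f8.k31 : (by first | exact type_of% @Cfsg.Agent.HZ.L.E7.ExB.T | exact Unit : Sort _) := by first | (refine @Subtype.val _ (fun g => @Cfsg.Agent.HZ.L.E7.ExB.T = @g) (@Subtype.mk _ _ (@(letI c0 := @Option.rec.{1, 0}; letI c1 := @Cfsg.Agent.KO1ca71f8.k30.{0}; letI c2 := @Fin.val; @(fun x0 x1 x2 => @c0 ℤ @(fun x3 => ℤ) (@Int.ofNat (nat_lit 0)) @(fun x3 => @x3) (@c1 _ (@c0 (@List.{0} ℤ) @(fun x3 => @List.{0} ℤ)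 [] @(fun x3 => @x3) (@c1 _ (@c0 (@List.{0} (@List.{0} ℤ)) @(fun x3 => @List.{0} (@List.{0} ℤ)) [] @(fun x3 => @x3) (@c1 _ @Cfsg.Agent.HZ.L.E7.ExB.TL @x0)) (@c2 (nat_lit 10) @x1))) (@c2 (nat_lit 8) @x2))))) ?_); rewrite [← Cfsg.Agent.KO1ca71f8.e30.{0}]; (try delta Cfsg.Agent.HZ.L.E7.ExB.T); (try generalize @Cfsg.Agent.HZ.L.E7.ExB.TL = g0); rfl') | exact @Cfsg.Agent.HZ.L.E7.ExB.T | exact ()
private theorem _root_.Cfsg.Agent.KO1ca71f8.e31 : (by first | exact @Cfsg.Agent.HZ.L.E7.ExB.T = @_root_.Cfsg.Agent.KO1ca71f8.k31 | exact True : Prop) := by first | (delta _root_.Cfsg.Agent.KO1ca71f8.k31; exact @Subtype.property _ (fun g => @Cfsg.Agent.HZ.L.E7.ExB.T = @g) _) | rfl | trivial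
private noncomputable def _root_.Cfsg.Agent.KO1ca71f8.k32.{ku} {α : Type ku} {n : Nat} (h : α) (t : Fin n → α) (i : Fin n.succ) : α := @Nat.rec (fun m => m < n.succ → α) (fun _ => h) (fun j _ g => t ⟨j, Nat.lt_of_succ_lt_succ g⟩) i.1 i.2
private theorem _root_.Cfsg.Agent.KO1ca71f8.e32.{ku} : @Matrix.vecCons.{ku} = @_root_.Cfsg.Agent.KO1ca71f8.k32.{ku} := funext fun α => funext fun n => funext fun h => funext fun t => funext fun i => by cases i with | mk m g => cases m <;> rfl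
private noncomputable def _root_.Cfsg.Agent.KO1ca71f8.k33s : (by first | exact Subtype (fun g => @Cfsg.Agent.HZ.L.E7.C8 = @g) | exact Unit : Sort _) := by first | exact ⟨_, by delta Cfsg.Agent.HZ.L.E7.C8; rewrite [Cfsg.Agent.KO1ca71f8.e32.{0}]; exact rfl⟩ | exact ⟨_, rfl⟩ | exact ()
private noncomputable def _root_.Cfsg.Agent.KO1ca71f8.k33 : (by first | exact type_of% (@Subtype.val _ _ _root_.Cfsg.Agent.KO1ca71f8.k33s) | exact Unit : Sort _) := by first | exact @Subtype.val _ _ _root_.Cfsg.Agent.KO1ca71f8.k33s | exact ()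
private theorem _root_.Cfsg.Agent.KO1ca71f8.e33 : (by first | exact type_of% (show _ = @_root_.Cfsg.Agent.KO1ca71f8.k33 from @Subtype.property _ _ _root_.Cfsg.Agent.KO1ca71f8.k33s) | exact True : Prop) := by first | exact @Subtype.property _ _ _root_.Cfsg.Agent.KO1ca71f8.k33s | trivial
private noncomputable def _root_.Cfsg.Agent.KO1ca71f8.k34 : (by first | exact type_of% @Cfsg.Agent.HZ.L.E7.ExB.S | exact Unit : Sort _) := by first | (refine @Subtype.val _ (fun g => @Cfsg.Agent.HZ.L.E7.ExB.S = @g) (@Subtype.mk _ _ (@(letI c0 := @Option.rec.{1, 0}; letI c1 := @Cfsg.Agent.KO1ca71f8.k30.{0}; letI c2 := @Fin.val; @(fun x0 x1 x2 => @c0 ℤ @(fun x3 => ℤ) (@Int.ofNat (nat_lit 0)) @(fun x3 => @x3) (@c1 _ (@c0 (@List.{0} ℤ) @(fun x3 => @List.{0} ℤ) [] @(fun x3 => @x3) (@c1 _ (@c0 (@List.{0} (@List.{0} ℤ)) @(fun x3 => @List.{0} (@List.{0} ℤ)) [] @(fun x3 => @x3) (@c1 _ @Cfsg.Agent.HZ.L.E7.ExB.SL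 @x0)) (@c2 (nat_lit 8) @x1))) (@c2 (nat_lit 10) @x2))))) ?_); rewrite [← Cfsg.Agent.KO1ca71f8.e30.{0}]; (try delta Cfsg.Agent.HZ.L.E7.ExB.S); (try generalize @Cfsg.Agent.HZ.L.E7.ExB.SL = g0); rfl') | exact @Cfsg.Agent.HZ.L.E7.ExB.S | exact ()
private theorem _root_.Cfsg.Agent.KO1ca71f8.e34 : (by first | exact @Cfsg.Agent.HZ.L.E7.ExB.S = @_root_.Cfsg.Agent.KO1ca71f8.k34 | exact True : Prop) := by first | (delta _root_.Cfsg.Agent.KO1ca71f8.k34; exact @Subtype.property _ (fun g => @Cfsg.Agent.HZ.L.E7.ExB.S = @g) _) | rfl | trivial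
private noncomputable def _root_.Cfsg.Agent.KO1ca71f8.k35.{ku0} : type_of% @ite.{ku0} := @(fun x0 x1 x2 x3 x4 => @Decidable.rec.{ku0} _ @(fun x5 => @x0) @(fun x5 => @x4) @(fun x5 => @x3) @x2)
private theorem _root_.Cfsg.Agent.KO1ca71f8.e35.{ku0} : @ite.{ku0} = @_root_.Cfsg.Agent.KO1ca71f8.k35.{ku0} := by delta _root_.Cfsg.Agent.KO1ca71f8.k35; rfl'
private noncomputable def _root_.Cfsg.Agent.KO1ca71f8.k36 : type_of% @instDecidableEqFin := @(letI c0 := @Fin.val; @(fun x0 x1 x2 => @Decidable.rec.{1} _ @(fun x3 => @Decidable (@Eq.{1} _ @x1 @x2)) @(fun x3 => @Decidable.isFalse _ (@instDecidableEqFin._proof_1 @x0 @x1 @x2 @x3)) @(fun x3 => @Decidable.isTrue _ (@Fin.eq_of_val_eq _ _ _ @x3)) (@Cfsg.Agent.KO1ca71f8.k25 (@c0 _ @x1) (@c0 _ @x2))))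
private theorem _root_.Cfsg.Agent.KO1ca71f8.e36 : @instDecidableEqFin = @_root_.Cfsg.Agent.KO1ca71f8.k36 := by delta _root_.Cfsg.Agent.KO1ca71f8.k36; exact Subsingleton.elim _ _

theorem p0 : ∀ c < 6, ∀ q : Fin 8 × Fin 8, (q.1.1 ≠ c → q.2.1 ≠ c → ∑ i, T c i q.1 * T c i q.2 = C8 q.1 q.2) ∧
    ∑ i, S c q.1 i * T c i q.2 = if q.1 = q.2 ∧ q.1.1 ≠ c then 2 else 0 := by (first | (refine of_decide_eq_true ?_; rewrite [Cfsg.Agent.KO1ca71f8.e7, Cfsg.Agent.KO1ca71f8.e9, Cfsg.Agent.KO1ca71f8.e10, Cfsg.Agent.KO1ca71f8.e11, Cfsg.Agent.KO1ca71f8.e21.{0}, Cfsg.Agent.KO1ca71f8.e22, Cfsg.Agent.KO1ca71f8.e23, Cfsg.Agent.KO1ca71f8.e24, Cfsg.Agent.KO1ca71f8.e26, Cfsg.Agent.KO1ca71f8.e28, Cfsg.Agent.KO1ca71f8.e31, Cfsg.Agent.KO1ca71f8.e33, Cfsg.Agent.KO1ca71f8.e34, Cfsg.Agent.KO1ca71f8.e35.{1}, Cfsg.Agent.KO1ca71f8.e36]; decide +kernel) | decide +kernel)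

theorem p1 : ∀ c < 6, ∀ j k : Fin 8, (j.1 ≠ c → k.1 ≠ c → ∑ i, T c i j * T c i k = C8 j k) ∧
    ∑ i, S c j i * T c i k = if j = k ∧ j.1 ≠ c then 2 else 0 := fun c hc j k => p0 c hc (j, k)

private noncomputable def _root_.Cfsg.Agent.KO1ca71f8.k3 : type_of% @Int.add := @(letI c0 := @Int.rec.{1}; letI c1 := @Int.ofNat; letI c2 := @Nat.add; letI c3 := @Nat.rec.{1}; letI c4 := @Nat.sub; letI c5 := @Nat.succ; letI c6 := @Int.negSucc; @(fun x0 x1 => @c0 @(fun x2 => ℤ) @(fun x2 => @c0 @(fun x3 => ℤ) @(fun x3 => @c1 (@c2 @x2 @x3)) @(fun x3 => @c3 @(fun x4 => ℤ) (@c1 (@c4 @x2 (@c5 @x3))) @(fun x4 x5 => @c6 @x4) (@c4 (@c5 @x3) @x2)) @x1) @(fun x2 => @c0 @(fun x3 => ℤ) @(fun x3 => @c3 @(fun x4 => ℤ) (@c1 (@c4 @x3 (@c5 @x2))) @(fun x4 x5 => @c6 @x4) (@c4 (@c5 @x2) @x3)) @(fun x3 => @c6 (@c5 (@c2 @x2 @x3))) @x1) @x0))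
private theorem _root_.Cfsg.Agent.KO1ca71f8.e3 : @Int.add = @_root_.Cfsg.Agent.KO1ca71f8.k3 := by delta _root_.Cfsg.Agent.KO1ca71f8.k3; rfl'
private noncomputable def _root_.Cfsg.Agent.KO1ca71f8.k37 : type_of% @Int.neg := @(letI c0 := @Int.ofNat; @(fun x0 => @Int.rec.{1} @(fun x1 => ℤ) @(fun x1 => @Nat.rec.{1} @(fun x2 => ℤ) (@c0 (nat_lit 0)) @(fun x2 x3 => @Int.negSucc @x2) @x1) @(fun x1 => @c0 (@Nat.succ @x1)) @x0))
private theorem _root_.Cfsg.Agent.KO1ca71f8.e37 : @Int.neg = @_root_.Cfsg.Agent.KO1ca71f8.k37 := by delta _root_.Cfsg.Agent.KO1ca71f8.k37; rfl'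
private noncomputable def _root_.Cfsg.Agent.KO1ca71f8.k38s : (by first | exact Subtype (fun g => @Neg.neg.{0} (ℤ) _ = @g) | exact Unit : Sort _) := by first | (refine @Subtype.mk _ _ (@Cfsg.Agent.KO1ca71f8.k37) ?_; rewrite [← Cfsg.Agent.KO1ca71f8.e37]; rfl') | exact ⟨_, rfl⟩ | exact ()
private noncomputable def _root_.Cfsg.Agent.KO1ca71f8.k38 : (by first | exact type_of% (@Subtype.val _ _ _root_.Cfsg.Agent.KO1ca71f8.k38s) | exact Unit : Sort _) := by first | exact @Subtype.val _ _ _root_.Cfsg.Agent.KO1ca71f8.k38s | exact ()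
private theorem _root_.Cfsg.Agent.KO1ca71f8.e38 : (by first | exact type_of% (show _ = @_root_.Cfsg.Agent.KO1ca71f8.k38 from @Subtype.property _ _ _root_.Cfsg.Agent.KO1ca71f8.k38s) | exact True : Prop) := by first | exact @Subtype.property _ _ _root_.Cfsg.Agent.KO1ca71f8.k38s | trivial
private noncomputable def _root_.Cfsg.Agent.KO1ca71f8.k39 : type_of% @Nat.decidableForallFin := @(fun x0 x1 x2 => @Decidable.rec.{1} _ @(fun x3 => @Decidable ((x4 : @Fin @x0) → @x1 @x4)) @(fun x3 => @Decidable.isFalse _ (@decidable_of_decidable_of_iff._proof_1 _ _ (@Nat.decidableForallFin._proof_1 _ @x1) @x3)) @(fun x3 => @Decidable.isTrue _ (@Iff.mp _ _ (@Nat.decidableForallFin._proof_1 _ @x1) @x3)) (@Cfsg.Agent.KO1ca71f8.k11 @x0 @(fun x3 x4 => @x1 (@Fin.mk _ @x3 @x4)) @(fun x3 x4 => @x2 (@Fin.mk _ @x3 @x4))))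
private theorem _root_.Cfsg.Agent.KO1ca71f8.e39 : @Nat.decidableForallFin = @_root_.Cfsg.Agent.KO1ca71f8.k39 := by delta _root_.Cfsg.Agent.KO1ca71f8.k39; exact Subsingleton.elim _ _
private noncomputable def _root_.Cfsg.Agent.KO1ca71f8.k40 : (by first | exact type_of% @Cfsg.Agent.HZ.L.E7.ExB.y0 | exact Unit : Sort _) := by first | (refine @Subtype.val _ (fun g => @Cfsg.Agent.HZ.L.E7.ExB.y0 = @g) (@Subtype.mk _ _ (@(letI c0 := @Option.rec.{1, 0}; @(fun x0 x1 => @c0 ℤ @(fun x2 => ℤ) (@Int.ofNat (nat_lit 0)) @(fun x2 => @x2) (@Cfsg.Agent.KO1ca71f8.k30.{0} _ (@c0 (@List.{0} ℤ) @(fun x2 => @List.{0} ℤ) [] @(fun x2 => @x2) (@Cfsg.Agent.KO1ca71f8.k30.{0} _ @Cfsg.Agent.HZ.L.E7.ExB.YL @x0)) (@Fin.val (nat_lit 10) @x1))))) ?_); rewrite [← Cfsg.Agent.KO1ca71f8.e30.{0}]; (try delta Cfsg.Agent.HZ.L.E7.ExB.y0); (try generalize @Cfsg.Agent.HZ.L.E7.ExB.YL = g0); rfl') | exact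 @Cfsg.Agent.HZ.L.E7.ExB.y0 | exact ()
private theorem _root_.Cfsg.Agent.KO1ca71f8.e40 : (by first | exact @Cfsg.Agent.HZ.L.E7.ExB.y0 = @_root_.Cfsg.Agent.KO1ca71f8.k40 | exact True : Prop) := by first | (delta _root_.Cfsg.Agent.KO1ca71f8.k40; exact @Subtype.property _ (fun g => @Cfsg.Agent.HZ.L.E7.ExB.y0 = @g) _) | rfl | trivial
private noncomputable def _root_.Cfsg.Agent.KO1ca71f8.k41.{ku0} : type_of% @List.getD.{ku0} := @(fun x0 x1 x2 x3 => @Option.rec.{(ku0+1), ku0} @x0 @(fun x4 => @x0) @x3 @(fun x4 => @x4) (@Cfsg.Agent.KO1ca71f8.k30.{ku0} _ @x1 @x2))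
private theorem _root_.Cfsg.Agent.KO1ca71f8.e41.{ku0} : @List.getD.{ku0} = @_root_.Cfsg.Agent.KO1ca71f8.k41.{ku0} := by delta _root_.Cfsg.Agent.KO1ca71f8.k41; rewrite [← Cfsg.Agent.KO1ca71f8.e30.{ku0}]; rfl'
private noncomputable def _root_.Cfsg.Agent.KO1ca71f8.k42 : type_of% @Int.decLe := @(letI c0 := @Int.rec.{1}; letI c1 := @Int.ofNat; @(fun x0 x1 => @decidable_of_iff' _ _ (by rewrite [← Cfsg.Agent.KO1ca71f8.e3]; rfl') (@c0 @(fun x2 => @Decidable (@Int.NonNeg @x2)) @(fun x2 => @Decidable.isTrue _ (@Int.NonNeg.mk @x2)) @(fun x2 => @Decidable.isFalse _ (@Int.decNonneg._proof_1 @x2)) (@Cfsg.Agent.KO1ca71f8.k3 @x1 (@c0 @(fun x2 => ℤ) @(fun x2 => @Nat.rec.{1} @(fun x3 => ℤ) (@c1 (nat_lit 0)) @(fun x3 x4 => @Int.negSucc @x3) @x2) @(fun x2 => @c1 (@Nat.succ @x2)) @x0)))))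
private theorem _root_.Cfsg.Agent.KO1ca71f8.e42 : @Int.decLe = @_root_.Cfsg.Agent.KO1ca71f8.k42 := by delta _root_.Cfsg.Agent.KO1ca71f8.k42; exact Subsingleton.elim _ _
private noncomputable def _root_.Cfsg.Agent.KO1ca71f8.k43 : type_of% @Bool.decEq := @(letI c0 := @Bool.rec.{1}; letI c1 := @Decidable.isTrue; letI c2 := @rfl.{1}; letI c3 := @Decidable.isFalse; letI c4 := @Bool.noConfusion.{0}; @(fun x0 x1 => @c0 @(fun x2 => @Decidable (@Eq.{1} _ @x2 @x1)) (@c0 @(fun x2 => @Decidable (@Eq.{1} _ @Bool.false @x2)) (@c1 _ (@c2 _ _)) (@c3 _ @(fun x2 => @c4 _ _ _ @x2)) @x1) (@c0 @(fun x2 => @Decidable (@Eq.{1} _ @Bool.true @x2)) (@c3 _ @(fun x2 => @c4 _ _ _ @x2)) (@c1 _ (@c2 _ _)) @x1) @x0))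
private noncomputable def _root_.Cfsg.Agent.KO1ca71f8.k44 : type_of% @Nat.decLe := @(fun x0 x1 => @Decidable.rec.{1} _ @(fun x2 => @Decidable (@LE.le.{0} _ _ @x0 @x1)) @(fun x2 => @Decidable.isFalse _ (@Nat.not_le_of_not_ble_eq_true _ _ @x2)) @(fun x2 => @Decidable.isTrue _ (@Nat.le_of_ble_eq_true _ _ @x2)) (@Cfsg.Agent.KO1ca71f8.k43 (@Nat.ble @x0 @x1) @Bool.true))
private theorem _root_.Cfsg.Agent.KO1ca71f8.e44 : @Nat.decLe = @_root_.Cfsg.Agent.KO1ca71f8.k44 := by delta _root_.Cfsg.Agent.KO1ca71f8.k44; exact Subsingleton.elim _ _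
private noncomputable def _root_.Cfsg.Agent.KO1ca71f8.k46.{ku0} : type_of% @Finset.card.{ku0} := @(fun x0 x1 => @Quot.lift.{(ku0+1), 1} _ _ _ (@List.length.{ku0} _) @(fun x2 x3 => @List.Perm.length_eq.{ku0} _ _ _) (@Finset.val.{ku0} _ @x1))
private theorem _root_.Cfsg.Agent.KO1ca71f8.e46.{ku0} : @Finset.card.{ku0} = @_root_.Cfsg.Agent.KO1ca71f8.k46.{ku0} := by delta _root_.Cfsg.Agent.KO1ca71f8.k46; rfl'
private noncomputable def _root_.Cfsg.Agent.KO1ca71f8.k48.{ku0} : type_of% @Finset.filter.{ku0} := @(fun x0 x1 x2 x3 => @Finset.mk.{ku0} _ (@Quot.lift.{(ku0+1), (ku0+1)} _ _ _ @(fun x4 => @Quot.mk.{(ku0+1)} _ (@Setoid.r.{(ku0+1)} _ _) (@List.filter.{ku0} _ @(fun x5 => @Decidable.rec.{1} _ @(fun x6 => @Bool) @(fun x6 => @Bool.false) @(fun x6 => @Bool.true) (@x2 @x5)) @x4)) (@Multiset.filter._proof_1.{ku0} _ @x1 _) (@Finset.val.{ku0} _ @x3)) (@Finset.filter._proof_1.{ku0}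 _ @x1 _ @x3))
private theorem _root_.Cfsg.Agent.KO1ca71f8.e48.{ku0} : @Finset.filter.{ku0} = @_root_.Cfsg.Agent.KO1ca71f8.k48.{ku0} := by delta _root_.Cfsg.Agent.KO1ca71f8.k48; rfl'

theorem p2 : ∀ c < 6, (∀ k, ∑ i, y0 c i * T c i k = 0) ∧ (∀ k i, -2 ≤ S c k i ∧ S c k i ≤ 2) ∧
    (∀ k : Fin 8, k.1 = c → ∀ i, S c k i = 0) ∧ (Finset.univ.filter fun i => y0 c i = 0).card ≤ 7 := by
  simp only [S, T, of_apply]
  (first | (refine of_decide_eq_true ?_; rewrite [Cfsg.Agent.KO1ca71f8.e7, Cfsg.Agent.KO1ca71f8.e9, Cfsg.Agent.KO1ca71f8.e38, Cfsg.Agent.KO1ca71f8.e10, Cfsg.Agent.KO1ca71f8.e11, Cfsg.Agent.KO1ca71f8.e22, Cfsg.Agent.KO1ca71f8.e39, Cfsg.Agent.KO1ca71f8.e28, Cfsg.Agent.KO1ca71f8.e40, Cfsg.Agent.KO1ca71f8.e41.{0}, Cfsg.Agent.KO1ca71f8.e42, Cfsg.Agent.KO1ca71f8.e23, Cfsg.Agent.KO1ca71f8.e26, Cfsg.Agent.KO1ca71f8.e44, Cfsg.Agent.KO1ca71f8.e46.{0}, Cfsg.Agent.KO1ca71f8.e48.{0}];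 decide +kernel) | decide +kernel)

private noncomputable def _root_.Cfsg.Agent.KO1ca71f8.k49s : (by first | exact Subtype (fun g => @HAdd.hAdd.{0, 0, 0} (ℤ) (ℤ) (ℤ) _ = @g) | exact Unit : Sort _) := by first | (refine @Subtype.mk _ _ (@(fun x0 x1 => @Cfsg.Agent.KO1ca71f8.k3 @x0 @x1)) ?_; rewrite [← Cfsg.Agent.KO1ca71f8.e3]; rfl') | exact ⟨_, rfl⟩ | exact ()
private noncomputable def _root_.Cfsg.Agent.KO1ca71f8.k49 : (by first | exact type_of% (@Subtype.val _ _ _root_.Cfsg.Agent.KO1ca71f8.k49s) | exact Unit : Sort _) := by first | exact @Subtype.val _ _ _root_.Cfsg.Agent.KO1ca71f8.k49s | exact ()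
private theorem _root_.Cfsg.Agent.KO1ca71f8.e49 : (by first | exact type_of% (show _ = @_root_.Cfsg.Agent.KO1ca71f8.k49 from @Subtype.property _ _ _root_.Cfsg.Agent.KO1ca71f8.k49s) | exact True : Prop) := by first | exact @Subtype.property _ _ _root_.Cfsg.Agent.KO1ca71f8.k49s | trivial
private noncomputable def _root_.Cfsg.Agent.KO1ca71f8.k51s : (by first | exact Subtype (fun g => @Finset.sum.{0, 0} (@Fin ((8 : ℕ))) (ℤ) _ = @g) | exact Unit : Sort _) := by first | (refine @Subtype.mk _ _ (@(fun x0 x1 => @Cfsg.Agent.KO1ca71f8.k4 (@Quot.lift.{1, 1} _ _ _ @(fun x2 => @Quot.mk.{1} _ (@Setoid.r.{1} _ _) (@List.map.{0, 0} _ _ @x1 @x2)) (@Multiset.map._proof_1.{0, 0} _ _ @x1) (@Finset.val.{0} _ @x0)))) ?_; rewrite [← Cfsg.Agent.KO1ca71f8.e4]; rfl') | exact ⟨_, rfl⟩ | exact ()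
private noncomputable def _root_.Cfsg.Agent.KO1ca71f8.k51 : (by first | exact type_of% (@Subtype.val _ _ _root_.Cfsg.Agent.KO1ca71f8.k51s) | exact Unit : Sort _) := by first | exact @Subtype.val _ _ _root_.Cfsg.Agent.KO1ca71f8.k51s | exact ()
private theorem _root_.Cfsg.Agent.KO1ca71f8.e51 : (by first | exact type_of% (show _ = @_root_.Cfsg.Agent.KO1ca71f8.k51 from @Subtype.property _ _ _root_.Cfsg.Agent.KO1ca71f8.k51s) | exact True : Prop) := by first | exact @Subtype.property _ _ _root_.Cfsg.Agent.KO1ca71f8.k51s | trivial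
private noncomputable def _root_.Cfsg.Agent.KO1ca71f8.k52 : type_of% @Int.ediv := @(letI c0 := @Int.rec.{1}; letI c1 := @Int.ofNat; letI c2 := @Nat.div; letI c3 := @Nat.rec.{1}; letI c4 := @Int.negSucc; letI c5 := @Nat.succ; @(fun x0 x1 => @c0 @(fun x2 => ℤ) @(fun x2 => @c0 @(fun x3 => ℤ) @(fun x3 => @c1 (@c2 @x2 @x3)) @(fun x3 => @c3 @(fun x4 => ℤ) (@c1 (nat_lit 0)) @(fun x4 x5 => @c4 @x4) (@c2 @x2 (@c5 @x3))) @x1) @(fun x2 => @c0 @(fun x3 => ℤ) @(fun x3 => @c3 @(fun x4 => ℤ) (@c1 (nat_lit 0)) @(fun x4 x5 => @c4 (@c2 @x2 (@c5 @x4))) @x3) @(fun x3 => @c1 (@c5 (@c2 @x2 (@c5 @x3)))) @x1) @x0))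
private theorem _root_.Cfsg.Agent.KO1ca71f8.e52 : @Int.ediv = @_root_.Cfsg.Agent.KO1ca71f8.k52 := by delta _root_.Cfsg.Agent.KO1ca71f8.k52; rfl'
private noncomputable def _root_.Cfsg.Agent.KO1ca71f8.k53 : (by first | exact type_of% @Cfsg.Agent.HZ.L.E7.ExB.mm | exact Unit : Sort _) := by first | (refine @Subtype.val _ (fun g => @Cfsg.Agent.HZ.L.E7.ExB.mm = @g) (@Subtype.mk _ _ (@(fun x0 x1 x2 x3 x4 x5 => @Cfsg.Agent.KO1ca71f8.k52 (@Cfsg.Agent.KO1ca71f8.k3 (@Cfsg.Agent.KO1ca71f8.k8 (@Cfsg.Agent.KO1ca71f8.k34 @x0 @x5 @x1) @x3) (@Cfsg.Agent.KO1ca71f8.k8 (@Cfsg.Agent.KO1ca71f8.k34 @x0 @x5 @x2) @x4)) (@Int.ofNat (nat_lit 2)))) ?_); rewrite [← Cfsg.Agent.KO1ca71f8.e34, ← Cfsg.Agent.KO1ca71f8.e8, ← Cfsg.Agent.KO1ca71f8.e3, ← Cfsg.Agent.KO1ca71f8.e52]; (try delta Cfsg.Agent.HZ.L.E7.ExB.mm); (try generalize @Cfsg.Agent.HZ.L.E7.ExB.S = g0); rfl') | exact @Cfsg.Agent.HZ.L.E7.ExB.mm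 | exact ()
private theorem _root_.Cfsg.Agent.KO1ca71f8.e53 : (by first | exact @Cfsg.Agent.HZ.L.E7.ExB.mm = @_root_.Cfsg.Agent.KO1ca71f8.k53 | exact True : Prop) := by first | (delta _root_.Cfsg.Agent.KO1ca71f8.k53; exact @Subtype.property _ (fun g => @Cfsg.Agent.HZ.L.E7.ExB.mm = @g) _) | rfl | trivial
private noncomputable def _root_.Cfsg.Agent.KO1ca71f8.k54 : type_of% @instDecidableOr := @(fun x0 x1 x2 x3 => @Decidable.rec.{1} _ @(fun x4 => @Decidable (@Or @x0 @x1)) @(fun x4 => @Decidable.rec.{1} _ @(fun x5 => @Decidable (@Or @x0 @x1)) @(fun x5 => @Decidable.isFalse _ (@instDecidableOr._proof_1 _ _ @x4 @x5)) @(fun x5 => @Decidable.isTrue _ (@Or.inr _ _ @x5)) @x3) @(fun x4 => @Decidable.isTrue _ (@Or.inl _ _ @x4)) @x2)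
private theorem _root_.Cfsg.Agent.KO1ca71f8.e54 : @instDecidableOr = @_root_.Cfsg.Agent.KO1ca71f8.k54 := by delta _root_.Cfsg.Agent.KO1ca71f8.k54; exact Subsingleton.elim _ _

theorem p3 : ∀ c < 6, ∀ i j : Fin 10, i ≠ j → ∀ s ∈ [(1 : ℤ), -1], ∀ t ∈ [(1 : ℤ), -1], s * y0 c i + t * y0 c j = 0 →
    (∀ k, S c k i * s + S c k j * t = 2 * mm c i j s t k) ∧
    (∀ a, ∑ k, T c a k * mm c i j s t k = (if a = i then s else 0) + if a = j then t else 0) ∧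
    ((∀ k, 0 ≤ mm c i j s t k) ∨ ∀ k, mm c i j s t k ≤ 0) := by
  have h : ∀ c < 6, ∀ i j : Fin 10, i ≠ j → ∀ s ∈ [(1 : ℤ), -1], ∀ t ∈ [(1 : ℤ), -1], s * y0 c i + t * y0 c j = 0 →
      (∀ k, S c k i * s + S c k j * t = 2 * mm c i j s t k) ∧
      (∀ a, (∑ k, T c a k * S c k i) * s + (∑ k, T c a k * S c k j) * t =
        2 * ((if a = i then s else 0) + if a = j then t else 0)) ∧
      ((∀ k, 0 ≤ mm c i j s t k) ∨ ∀ k, mm c i j s t k ≤ 0) := by (first | (refine of_decide_eq_true ?_; rewrite [Cfsg.Agent.KO1ca71f8.e51, Cfsg.Agent.KO1ca71f8.e9, Cfsg.Agent.KO1ca71f8.e49, Cfsg.Agent.KO1ca71f8.e38, Cfsg.Agent.KO1ca71f8.e10, Cfsg.Agent.KO1ca71f8.e11, Cfsg.Agent.KO1ca71f8.e39, Cfsg.Agent.KO1ca71f8.e23, Cfsg.Agent.KO1ca71f8.e24, Cfsg.Agent.KO1ca71f8.e36, Cfsg.Agent.KO1ca71f8.e14.{0}, Cfsg.Agent.KO1ca71f8.e28, Cfsg.Agent.KO1ca71f8.e40, Cfsg.Agent.KO1ca71f8.e22, Cfsg.Agent.KO1ca71f8.e34,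 Cfsg.Agent.KO1ca71f8.e53, Cfsg.Agent.KO1ca71f8.e31, Cfsg.Agent.KO1ca71f8.e35.{1}, Cfsg.Agent.KO1ca71f8.e54, Cfsg.Agent.KO1ca71f8.e42]; decide +kernel) | decide +kernel)
  intro c hc i j hij s hs t ht h0
  obtain ⟨h1, h2, h3⟩ := h c hc i j hij s hs t ht h0
  refine ⟨h1, fun a => mul_left_cancel₀ (two_ne_zero (α := ℤ)) ?_, h3⟩
  rw [← h2 a, Finset.mul_sum, Finset.sum_mul, Finset.sum_mul, ← Finset.sum_add_distrib]
  refine Finset.sum_congr rfl fun k _ => ?_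
  rw [mul_left_comm, ← h1 k, mul_add, mul_assoc, mul_assoc]

theorem peel {n : ℕ} {v : Fin n → ℤ} (h0 : v ⬝ᵥ v ≠ 0) (h : v ⬝ᵥ v ≤ 3) :
    ∃ (i : Fin n) (s : ℤˣ) (w : Fin n → ℤ), v = uv i s + w ∧ w i = 0 ∧ w ⬝ᵥ w + 1 = v ⬝ᵥ v := by
  obtain ⟨i, hi⟩ : ∃ i, v i ≠ 0 := by
    by_contra hc
    push Not at hc
    exact h0 (by rw [show v = 0 from funext hc, zero_dotProduct])
  have h1 : v i * v i ≤ v ⬝ᵥ v := Finset.single_le_sum (f := fun i => v i * v i) (fun j _ => mul_self_nonneg _)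
    (Finset.mem_univ i)
  have h2 : v i = 1 ∨ v i = -1 := by
    have h3 : v i < 2 := by nlinarith
    have h4 : -2 < v i := by nlinarith
    omega
  obtain ⟨s, hs⟩ : ∃ s : ℤˣ, (s : ℤ) = v i := h2.elim (fun e => ⟨1, e.symm⟩) fun e => ⟨-1, e.symm⟩
  refine ⟨i, s, v - uv i s, by abel, by simp [uv, hs], ?_⟩
  have h3 : v i * v i = 1 := by rcases h2 with e | e <;> rw [e] <;> rfl
  rw [sub_dotProduct, dotProduct_sub, dotProduct_sub, dotProduct_comm v (uv i s), uv_dot, uv_dot, hs]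
  simp only [uv, Pi.single_eq_same, hs]
  omega

theorem full_of {n : ℕ} {v : Fin n → ℤ} (h : v ⬝ᵥ v = 2) : (v, v) ∈ full .D n := by
  obtain ⟨i, s, w, e1, h1, h2⟩ := peel (v := v) (by omega) (by omega)
  obtain ⟨j, t, u, e2, -, h3⟩ := peel (v := w) (by omega) (by omega)
  obtain rfl : u = 0 := dotProduct_self_eq_zero.1 (by omega)
  rw [add_zero] at e2
  refine .inl ⟨i, j, s, t, ?_, by rw [e1, e2]⟩
  rintro rfl
  simp [e2, uv] at h1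

variable {c : Fin 8}

theorem iso_T (hc : c.1 < 6) {x y : V} (hx : x c = 0) (hy : y c = 0) : T c *ᵥ x ⬝ᵥ T c *ᵥ y = bf x y := by
  rw [dotProduct_mulVec, vecMul_mulVec, ← dotProduct_mulVec, bf]
  refine Finset.sum_congr rfl fun j _ => ?_
  by_cases h : j = c
  · rw [h, hx, zero_mul, zero_mul]
  refine congrArg (x j * ·) ?_
  show ∑ k, ((T c)ᵀ * T c) j k * y k = ∑ k, C8 j k * y k
  refine Finset.sum_congr rfl fun k _ => ?_
  by_cases h' : k = c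
  · rw [h', hy, mul_zero, mul_zero]
  exact congrArg (· * y k) ((p1 c hc j k).1 (fun e => h (Fin.ext e)) fun e => h' (Fin.ext e))

theorem S_T (hc : c.1 < 6) {x : V} (hx : x c = 0) (j : Fin 8) : (S c *ᵥ (T c *ᵥ x)) j = 2 * x j := by
  rw [mulVec_mulVec]
  have h1 : ∀ k, (S c * T c) j k * x k = if j = k then 2 * x k else 0 := fun k => by
    rw [mul_apply, (p1 c hc j k).2]
    by_cases h : j = k
    · subst h
      by_cases h' : j = c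
      · simp [h', hx]
      · have : j.1 ≠ c.1 := fun e => h' (Fin.ext e)
        simp [this]
    · simp [h]
  show ∑ k, (S c * T c) j k * x k = _
  simp only [h1, Finset.sum_ite_eq, Finset.mem_univ, if_true]

open Classical in
/-- the indicator of the complement -/
noncomputable def ind (K : Set (Fin 8)) : V := fun k => if k ∈ K then 0 else 1

theorem ind_bd (K : Set (Fin 8)) {x : V} {b : ℤ} (h : ∀ k, -b ≤ x k ∧ x k ≤ b) :
    -(8 * b) ≤ ind K ⬝ᵥ x ∧ ind K ⬝ᵥ x ≤ 8 * b := by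
  have h1 : ∀ k, -b ≤ ind K k * x k ∧ ind K k * x k ≤ b := fun k => by
    have := h k
    unfold ind
    split_ifs <;> omega
  have h2 := Finset.sum_le_sum (s := Finset.univ) fun k _ => (h1 k).1
  have h3 := Finset.sum_le_sum (s := Finset.univ) fun k _ => (h1 k).2
  simp only [Finset.sum_const, Finset.card_univ, Fintype.card_fin, nsmul_eq_mul, Nat.cast_ofNat] at h2 h3
  exact ⟨by rw [← mul_neg]; exact h2, h3⟩

theorem ind_zero (K : Set (Fin 8)) {x : V} (h : ∀ k, 0 ≤ x k) (h0 : ind K ⬝ᵥ x = 0) : ∀ k, k ∉ K → x k = 0 := by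
  intro k hk
  have h1 := (Finset.sum_eq_zero_iff_of_nonneg (f := fun k => ind K k * x k) fun k _ => by
    have := h k
    unfold ind
    split_ifs <;> omega).1 h0 k (Finset.mem_univ k)
  simpa [ind, hk] using h1

/-- the cocharacter of the Levi subsystem -/
noncomputable def yy (c : Fin 8) (K : Set (Fin 8)) : Fin 10 → ℤ := (100 : ℤ) • y0 c + ind K ᵥ* S c

theorem dot_yy (K : Set (Fin 8)) (r : Fin 10 → ℤ) : r ⬝ᵥ yy c K = 100 * (r ⬝ᵥ y0 c) + ind K ⬝ᵥ S c *ᵥ r := by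
  rw [yy, dotProduct_add, dotProduct_smul, smul_eq_mul, dotProduct_mulVec, dotProduct_comm r (_ ᵥ* _)]

theorem mem_pm (s : ℤˣ) : (s : ℤ) ∈ [(1 : ℤ), -1] := by
  rcases Int.units_eq_one_or s with rfl | rfl <;> simp

theorem iso_sl (hc : c.1 < 6) {K : Set (Fin 8)} (hK : c ∉ K) : Iso (sl K) (lev (full .D 10) (yy c K)) := by
  have h1 : ∀ a ∈ sl K, bf a.2 a.2 = 2 ∧ ∀ v, a.1 ⬝ᵥ v = bf a.2 v := fun a ha => by
    have h := ha.1
    simp only [top, Rt, one_mulVec, Set.mem_ofPred_eq] at h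
    exact h
  refine iso_of (fun a => (T c *ᵥ a.2, T c *ᵥ a.2)) ⟨fun a ha => ⟨full_of ?_, ?_⟩, ?_, ?_⟩
    fun a ha b hb => (iso_T hc (ha.2 c hK) (hb.2 c hK)).trans ((h1 a ha).2 _).symm
  · exact (iso_T hc (ha.2 c hK) (ha.2 c hK)).trans (h1 a ha).1
  · show T c *ᵥ a.2 ⬝ᵥ yy c K = 0
    have h2 : y0 c ᵥ* T c = 0 := funext (p2 c hc).1
    have h3 : ind K ⬝ᵥ S c *ᵥ (T c *ᵥ a.2) = 0 := Finset.sum_eq_zero fun k _ => by
      rw [S_T hc (ha.2 c hK)]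
      unfold ind
      split_ifs with h
      · exact zero_mul _
      · rw [ha.2 k h, mul_zero, mul_zero]
    rw [dot_yy, h3, dotProduct_comm, dotProduct_mulVec, h2, zero_dotProduct, mul_zero, add_zero]
  · intro a ha b hb e
    have e1 := (Prod.mk.inj e).1
    have e2 : a.2 = b.2 := funext fun j => by
      have h2 := S_T hc (ha.2 c hK) j
      rw [e1, S_T hc (hb.2 c hK)] at h2
      omega
    refine Prod.ext (funext fun j => ?_) e2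
    have h2 := (h1 a ha).2 (Pi.single j 1)
    rw [e2, ← (h1 b hb).2] at h2
    simpa using h2
  · rintro r ⟨⟨i, j, s, t, h, rfl⟩ | ⟨i, s, ⟨h, -⟩ | ⟨h, -⟩⟩, h0⟩
    · have h2 : ∀ k, (S c *ᵥ (uv i s + uv j t)) k = S c k i * s + S c k j * t := fun k => by
        simp [uv, mulVec_add, mulVec_single, mul_comm]
      have h3 := ind_bd K (x := S c *ᵥ (uv i s + uv j t)) (b := 4) fun k => by
        have a1 := (p2 c hc).2.1 k i
        have a2 := (p2 c hc).2.1 k j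
        rw [h2]
        rcases Int.units_eq_one_or s with rfl | rfl <;> rcases Int.units_eq_one_or t with rfl | rfl <;>
          simp only [Units.val_one, Units.val_neg] <;> omega
      have h4 : (uv i s + uv j t) ⬝ᵥ yy c K = 0 := h0
      rw [dot_yy, add_dotProduct, uv_dot, uv_dot] at h4
      obtain ⟨b1, b2, b3⟩ := p3 c hc i j h s (mem_pm s) t (mem_pm t) (by omega)
      have h5 : T c *ᵥ mm c i j s t = uv i s + uv j t := funext fun a => (b2 a).trans (by simp [uv, Pi.single_apply])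
      have h6 : ind K ⬝ᵥ mm c i j s t = 0 := by
        have e : S c *ᵥ (uv i s + uv j t) = (2 : ℤ) • mm c i j s t := funext fun k => (h2 k).trans (b1 k)
        rw [e, dotProduct_smul, smul_eq_mul] at h3 h4
        omega
      have h7 : ∀ k, k ∉ K → mm c i j s t k = 0 := by
        rcases b3 with b3 | b3
        · exact ind_zero K b3 h6
        · exact fun k hk => neg_eq_zero.1 (ind_zero K (x := -mm c i j s t) (fun k => neg_nonneg.2 (b3 k))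
            (by rw [dotProduct_neg, h6, neg_zero]) k hk)
      refine ⟨(mm c i j s t ᵥ* C8, mm c i j s t), ⟨⟨?_, fun v => ?_⟩, h7⟩, by simp only [h5]⟩
      · show bf (1 *ᵥ mm c i j s t) (1 *ᵥ mm c i j s t) = 2
        rw [one_mulVec, ← iso_T hc (h7 c hK) (h7 c hK), h5, add_dotProduct, uv_dot, uv_dot]
        rcases Int.units_eq_one_or s with rfl | rfl <;> rcases Int.units_eq_one_or t with rfl | rfl <;>
          simp [uv, h, h.symm]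
      · show mm c i j s t ᵥ* C8 ⬝ᵥ v = bf (1 *ᵥ mm c i j s t) (1 *ᵥ v)
        rw [one_mulVec, one_mulVec, bf, dotProduct_mulVec]
    · cases h
    · cases h

theorem card_zero (hc : c.1 < 6) (K : Set (Fin 8)) : Nat.card {i // (yy c K i).natAbs = 0} ≤ 7 := by
  classical
  rw [Nat.card_eq_fintype_card, Fintype.card_subtype]
  refine (Finset.card_le_card fun i hi => ?_).trans (p2 c hc).2.2.2
  simp only [Finset.mem_filter, Finset.mem_univ, true_and, Int.natAbs_eq_zero] at hi ⊢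
  have h1 := ind_bd K (x := fun k => S c k i) (b := 2) fun k => (p2 c hc).2.1 k i
  have h2 : yy c K i = 100 * y0 c i + ind K ⬝ᵥ fun k => S c k i := rfl
  omega

end Cfsg.Agent.HZ.L.E7.ExB

open Cfsg.Agent.HZ.L.E7.ExB Cfsg.Agent.HZ.L.CL.ExB in
/-- **the standard Levi subsystems without `E₆`** -/
theorem Cfsg.Agent.HZ.L.E7.boxEx : Cfsg.Agent.HZ.L.E7.BoxEx := by
  rintro K ⟨c, hc, hK⟩
  have h1 := iso_sg (κ := .D) (fun i => if yy c K i < 0 then -1 else 1) (yy c K)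
  have h2 : sg (fun i => if yy c K i < 0 then -1 else 1) (yy c K) = fun i => ((yy c K i).natAbs : ℤ) := by
    funext i
    simp only [sg]
    split_ifs <;> simp only [Units.val_neg, Units.val_one] <;> omega
  rw [h2, std_eq] at h1
  exact ⟨10, .D, _, iso_trans (iso_sl hc hK) h1, .inr ⟨rfl, card_zero hc K⟩⟩

private theorem dce_b61117d0bdcd : _root_.True := by
  try have : _root_.True := by simp only [_root_.Cfsg.Agent.HZ.L.E7.bf.eq_1]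
  try have : _root_.True := by simp only [_root_.Cfsg.Agent.HZ.L.E7.ExB.yy.eq_1]
  try have : _root_.True := by simp only [_root_.Cfsg.Agent.HZ.L.E7.Rt.eq_1]
  try have : _root_.True := by simp only [_root_.Cfsg.Agent.HZ.L.E7.top.eq_1]
  try have : _root_.True := by simp only [_root_.Cfsg.Agent.HZ.L.E7.ExB.S.eq_1]
  try have : _root_.True := by simp only [_root_.Cfsg.Agent.HZ.L.E7.ExB.T.eq_1]
  try have : _root_.True := by simp only [_root_.Cfsg.Agent.HZ.L.E7.ExB.ind.eq_1]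
  exact _root_.True.intro
end

-- part: HZ/L/U/Isg
section
prune_inst 0x4010000
set_option linter.all false
open scoped Cfsg.Agent.FastGrp

/-!
# HZ/L/U: transport along isogenies of odd degree (helper57)

* `Mt.*` : the dictionary for a pair of corresponding roots;
* `Isg.sub`, `lev`, `levQ`, `symm`, `trans`, `isg_W`;  `Isg.loc`, `Isg.fam`.
-/

set_option autoImplicit false
set_option linter.unusedSectionVars false

namespace Cfsg.Agent.HZ.L.U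

open Cfsg Cfsg.Agent.DL Matrix

variable {R R' R'' : Type} [Fintype R] [DecidableEq R] [Fintype R'] [DecidableEq R'] [Fintype R''] [DecidableEq R'']
  {P : Matrix R R' ℤ} {Q : Matrix R' R ℤ} {z : ℤ} {Ψ' : RS R'} {Ψ : RS R} {a' b' : Vec R' × Vec R'} {a b : Vec R × Vec R}

theorem Mt.dot (m : Mt P a' a) (v' : Vec R') : a'.1 ⬝ᵥ v' = a.1 ⬝ᵥ (P *ᵥ v') := by rw [m.1, dotProduct_mulVec]

theorem Mt.cor (m : Mt P a' a) (η : Vec R) : (η ᵥ* P) ⬝ᵥ a'.2 = η ⬝ᵥ a.2 := by rw [← dotProduct_mulVec, m.2]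

theorem Mt.car (m : Mt P a' a) (m' : Mt P b' b) : a'.1 ⬝ᵥ b'.2 = a.1 ⬝ᵥ b.2 := by rw [m.dot, m'.2]

theorem Mt.neg (m : Mt P a' a) : Mt P (-a') (-a) :=
  ⟨by rw [Prod.fst_neg, Prod.fst_neg, neg_vecMul, m.1], by rw [Prod.snd_neg, Prod.snd_neg, mulVec_neg, m.2]⟩

theorem dvd_odd_mul (hz : Odd z) (e : ℕ) {t : ℤ} : (2 : ℤ) ^ e ∣ z * t ↔ (2 : ℤ) ^ e ∣ t :=
  ⟨(IsCoprime.pow_left (Int.isCoprime_two_left.2 hz)).dvd_of_dvd_mul_left, fun h => h.mul_left z⟩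

namespace Isg

variable (h : Isg P Q z Ψ' Ψ)
include h

theorem z_ne : z ≠ 0 := fun e => by simpa [e] using h.odd

theorem PQv (v : Vec R) : P *ᵥ (Q *ᵥ v) = z • v := by rw [mulVec_mulVec, h.PQ, smul_mulVec, one_mulVec]

theorem QPv (v : Vec R') : Q *ᵥ (P *ᵥ v) = z • v := by rw [mulVec_mulVec, h.QP, smul_mulVec, one_mulVec]

theorem vPQ (v : Vec R) : v ᵥ* P ᵥ* Q = z • v := by rw [vecMul_vecMul, h.PQ, vecMul_smul, vecMul_one]

theorem vQP (v : Vec R') : v ᵥ* Q ᵥ* P = z • v := by rw [vecMul_vecMul, h.QP, vecMul_smul, vecMul_one]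

theorem P_inj {v w : Vec R'} (e : P *ᵥ v = P *ᵥ w) : v = w :=
  smul_right_injective _ h.z_ne ((h.QPv v).symm.trans ((congrArg (Q *ᵥ ·) e).trans (h.QPv w)))

theorem Q_inj {v w : Vec R} (e : Q *ᵥ v = Q *ᵥ w) : v = w :=
  smul_right_injective _ h.z_ne ((h.PQv v).symm.trans ((congrArg (P *ᵥ ·) e).trans (h.PQv w)))

theorem vP_inj {v w : Vec R} (e : v ᵥ* P = w ᵥ* P) : v = w :=
  smul_right_injective _ h.z_ne ((h.vPQ v).symm.trans ((congrArg (· ᵥ* Q) e).trans (h.vPQ w)))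

theorem dotQ (m : Mt P a' a) (v : Vec R) : a'.1 ⬝ᵥ (Q *ᵥ v) = z * (a.1 ⬝ᵥ v) := by
  rw [m.dot, h.PQv, dotProduct_smul, smul_eq_mul]

theorem vQ_P (η' v' : Vec R') : (η' ᵥ* Q) ⬝ᵥ (P *ᵥ v') = z * (η' ⬝ᵥ v') := by
  rw [dotProduct_mulVec, h.vQP, smul_dotProduct, smul_eq_mul]

theorem corQ (m : Mt P a' a) (η' : Vec R') : (η' ᵥ* Q) ⬝ᵥ a.2 = z * (η' ⬝ᵥ a'.2) := by rw [← m.2, h.vQ_P]

theorem dotQ_iff (m : Mt P a' a) (v : Vec R) : a'.1 ⬝ᵥ (Q *ᵥ v) = 0 ↔ a.1 ⬝ᵥ v = 0 := by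
  rw [h.dotQ m, mul_eq_zero, or_iff_right h.z_ne]

theorem mt_right (m : Mt P a' a) (m' : Mt P a' b) : a = b := Prod.ext (h.vP_inj (m.1.symm.trans m'.1)) (m.2.symm.trans m'.2)

theorem mt_left (m : Mt P a' a) (m' : Mt P b' a) : a' = b' := Prod.ext (m.1.trans m'.1.symm) (h.P_inj (m.2.trans m'.2.symm))

theorem sub {p' : Vec R' × Vec R' → Prop} {p : Vec R × Vec R → Prop} (e : ∀ a' ∈ Ψ', ∀ a ∈ Ψ, Mt P a' a → (p' a' ↔ p a)) :
    Isg P Q z {a' | a' ∈ Ψ' ∧ p' a'} {a | a ∈ Ψ ∧ p a} :=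
  ⟨h.odd, h.PQ, h.QP, fun a' ha => (h.up a' ha.1).imp fun a m => ⟨⟨m.1, (e a' ha.1 a m.1 m.2).1 ha.2⟩, m.2⟩,
    fun a ha => (h.dn a ha.1).imp fun a' m => ⟨⟨m.1, (e a' m.1 a ha.1 m.2).2 ha.2⟩, m.2⟩⟩

protected theorem lev (lam' : Vec R') : Isg P Q z (lev Ψ' lam') (lev Ψ (P *ᵥ lam')) := h.sub fun _ _ _ _ m => by rw [m.dot]

theorem levQ (lam : Vec R) : Isg P Q z (lev Ψ' (Q *ᵥ lam)) (lev Ψ lam) := h.sub fun _ _ _ _ m => h.dotQ_iff m lam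

theorem perp_iff {v' : Vec R'} : Perp Ψ (P *ᵥ v') ↔ Perp Ψ' v' :=
  ⟨fun e a' ha => by
    obtain ⟨a, h1, m⟩ := h.up a' ha
    rw [m.dot, e a h1], fun e a ha => by
    obtain ⟨a', h1, m⟩ := h.dn a ha
    rw [← m.dot, e a' h1]⟩

theorem perp_Q {v : Vec R} : Perp Ψ' (Q *ᵥ v) ↔ Perp Ψ v :=
  ⟨fun e a ha => by
    obtain ⟨a', h1, m⟩ := h.dn a ha
    exact (h.dotQ_iff m v).1 (e a' h1), fun e a' ha => by
    obtain ⟨a, h1, m⟩ := h.up a' ha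
    exact (h.dotQ_iff m v).2 (e a h1)⟩

theorem exists_equiv : ∃ φ : Ψ' ≃ Ψ, ∀ a', Mt P a'.1 (φ a').1 := by
  choose f h1 h2 using h.up
  choose g h3 h4 using h.dn
  exact ⟨⟨fun a' => ⟨f a'.1 a'.2, h1 _ _⟩, fun a => ⟨g a.1 a.2, h3 _ _⟩, fun a' => Subtype.ext (h.mt_left (h4 _ _) (h2 _ _)),
    fun a => Subtype.ext (h.mt_right (h2 _ _) (h4 _ _))⟩, fun a' => h2 _ _⟩

theorem ncard_eq : Ψ'.ncard = Ψ.ncard := h.exists_equiv.elim fun φ _ => Nat.card_congr φ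

theorem iso : Iso Ψ' Ψ := h.exists_equiv.imp fun _ m a b => ((m a).car (m b)).symm

theorem ex (e : Ex Ψ) : Ex Ψ' := h.iso.ex e

theorem nonempty_iff : Ψ'.Nonempty ↔ Ψ.Nonempty :=
  ⟨fun ⟨a, ha⟩ => (h.up a ha).imp fun _ m => m.1, fun ⟨a, ha⟩ => (h.dn a ha).imp fun _ m => m.1⟩

theorem top_iff : Top Ψ' ↔ Top Ψ :=
  ⟨fun e _ hv => h.Q_inj ((e _ (h.perp_Q.2 hv)).trans (mulVec_zero Q).symm),
    fun e _ hv => h.P_inj ((e _ (h.perp_iff.2 hv)).trans (mulVec_zero P).symm)⟩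

theorem t4_iff : T4 Ψ' ↔ T4 Ψ := or_congr (by rw [h.ncard_eq]) h.top_iff

theorem qv_up {q' : Vec R'} (e : q' ∈ Qv Ψ') : P *ᵥ q' ∈ Qv Ψ :=
  (Submodule.span_le (p := (Qv Ψ).comap P.mulVecLin)).2 (by
    rintro _ ⟨a', ha, rfl⟩
    obtain ⟨a, h1, m⟩ := h.up a' ha
    exact Submodule.subset_span ⟨a, h1, m.2.symm⟩) e

theorem qv_dn {q : Vec R} (e : q ∈ Qv Ψ) : ∃ q' ∈ Qv Ψ', P *ᵥ q' = q :=
  (Submodule.span_le (p := (Qv Ψ').map P.mulVecLin)).2 (by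
    rintro _ ⟨a, ha, rfl⟩
    obtain ⟨a', h1, m⟩ := h.dn a ha
    exact ⟨a'.2, Submodule.subset_span ⟨a', h1, rfl⟩, m.2⟩) e

theorem qv_iff {q' : Vec R'} : P *ᵥ q' ∈ Qv Ψ ↔ q' ∈ Qv Ψ' :=
  ⟨fun e => by
    obtain ⟨q, h1, h2⟩ := h.qv_dn e
    exact h.P_inj h2 ▸ h1, h.qv_up⟩

theorem qx_dn {x : Vec R} (e : x ∈ Qx Ψ) : x ᵥ* P ∈ Qx Ψ' :=
  (Submodule.span_le (p := (Qx Ψ').comap P.vecMulLinear)).2 (by
    rintro _ ⟨a, ha, rfl⟩
    obtain ⟨a', h1, m⟩ := h.dn a ha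
    exact Submodule.subset_span ⟨a', h1, m.1⟩) e

theorem qx_up {x' : Vec R'} (e : x' ∈ Qx Ψ') : ∃ x ∈ Qx Ψ, x ᵥ* P = x' :=
  (Submodule.span_le (p := (Qx Ψ).map P.vecMulLinear)).2 (by
    rintro _ ⟨a', ha, rfl⟩
    obtain ⟨a, h1, m⟩ := h.up a' ha
    exact ⟨a.1, Submodule.subset_span ⟨a, h1, rfl⟩, m.1.symm⟩) e

theorem perp_sub {n n' : ℤ} {y q : Vec R'} : Perp Ψ (n • P *ᵥ y - n' • P *ᵥ q) ↔ Perp Ψ' (n • y - n' • q) := by
  rw [← h.perp_iff, mulVec_sub, mulVec_smul, mulVec_smul]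

theorem q2_up {q' : Vec R'} (e : Q2 Ψ' q') : Q2 Ψ (P *ᵥ q') := by
  obtain ⟨h1, y, h2⟩ := e
  exact ⟨h.qv_up h1, P *ᵥ y, by rwa [← mulVec_smul, ← mulVec_sub, h.perp_iff]⟩

theorem q2_iff {q' : Vec R'} : Q2 Ψ (P *ᵥ q') ↔ Q2 Ψ' q' := by
  refine ⟨fun ⟨h1, y, h2⟩ => ?_, h.q2_up⟩
  obtain ⟨t, ht⟩ := h.odd
  refine ⟨h.qv_iff.1 h1, Q *ᵥ y - t • q', ?_⟩
  have h3 := h.perp_Q.2 h2
  rwa [mulVec_sub, mulVec_smul, h.QPv, ht, show (2 : ℤ) • Q *ᵥ y - (2 * t + 1) • q' = (2 : ℤ) • (Q *ᵥ y - t • q') - q' by module] at h3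

theorem q2_dn {q : Vec R} (e : Q2 Ψ q) : ∃ q', Q2 Ψ' q' ∧ P *ᵥ q' = q := by
  obtain ⟨q', -, rfl⟩ := h.qv_dn e.1
  exact ⟨q', h.q2_iff.1 e, rfl⟩

theorem ev_iff (m : Mt P a' a) : Ev Ψ' a' ↔ Ev Ψ a :=
  ⟨fun e b hb => by
    obtain ⟨b', h1, m'⟩ := h.dn b hb
    exact m.car m' ▸ e b' h1, fun e b' hb => by
    obtain ⟨b, h1, m'⟩ := h.up b' hb
    exact (m.car m').symm ▸ e b h1⟩

theorem hk {n : ℤ} (e : HK Ψ n) : HK Ψ' n := fun y => by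
  obtain ⟨m, h1, q, h2, h3⟩ := e (P *ᵥ y)
  obtain ⟨q', h4, rfl⟩ := h.qv_dn h2
  exact ⟨m, h1, q', h4, by rwa [← mulVec_smul, ← mulVec_sub, h.perp_iff] at h3⟩

theorem ix {e : ℕ} {η' : Vec R'} (h1 : IX Ψ' (2 ^ e) η') : IX Ψ (2 ^ e) (η' ᵥ* Q) := fun lam h2 =>
  h.perp_Q.1 (h1 _ fun a' ha h3 => by
    obtain ⟨a, h4, m⟩ := h.up a' ha
    exact (h.dotQ_iff m lam).2 (h2 a h4 (h.corQ m η' ▸ h3.mul_left z)))

theorem iy {n : ℤ} {x' : Vec R'} (h1 : IY Ψ' n x') : IY Ψ n (P *ᵥ x') := fun lam h2 =>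
  h.perp_Q.1 (h1 _ fun a' ha h3 => by
    obtain ⟨a, h4, m⟩ := h.up a' ha
    exact (h.dotQ_iff m lam).2 (h2 a h4 (m.dot x' ▸ h3)))

theorem s7 {lam' : Vec R'} (e : S7 Ψ (P *ᵥ lam')) : S7 Ψ' lam' := by
  obtain ⟨θ, h1, h2, h3⟩ := e
  obtain ⟨θ', h4, m⟩ := h.dn θ h1
  refine ⟨θ', h4, fun y => (h.lev lam').qv_iff.1 ?_, fun a' ha => ?_⟩
  · rw [mulVec_sub, mulVec_smul, mulVec_smul, m.dot, m.2]
    exact h2 _
  · obtain ⟨a, h5, m'⟩ := h.up a' ha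
    obtain ⟨h6, h7, h8⟩ := h3 a h5
    rw [m'.dot lam', m'.car m, m.car m', (h.lev lam').ev_iff m']
    refine ⟨h6, h7, h8.imp_right (Or.imp ?_ (Or.imp_left ?_))⟩ <;> rintro rfl
    exacts [h.mt_left m' m, h.mt_left m' m.neg]

theorem s6 (e : S6 Ψ) : S6 Ψ' := by
  obtain ⟨lam, h1, h2, h3, h4⟩ := e
  refine ⟨Q *ᵥ lam, (h.levQ lam).ncard_eq.trans h1, (h.levQ lam).hk h2, (h.sub fun _ _ _ _ m => h.ev_iff m).ex h3, fun a' ha => ?_⟩
  obtain ⟨a, h5, m⟩ := h.up a' ha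
  rw [h.dotQ_iff m, h.ev_iff m]
  refine ⟨(h4 a h5).1, fun h6 b' hb => ?_⟩
  obtain ⟨b, h7, m'⟩ := (h.levQ lam).up b' hb
  rw [m.car m', m'.car m]
  exact (h4 a h5).2 h6 b h7

theorem dvd_cor {e : ℕ} {η' : Vec R'} {n : ℤ} (h1 : ∀ a ∈ Ψ, (2 : ℤ) ^ e ∣ n * ((η' ᵥ* Q) ⬝ᵥ a.2)) :
    ∀ a' ∈ Ψ', (2 : ℤ) ^ e ∣ n * (η' ⬝ᵥ a'.2) := fun a' ha => by
  obtain ⟨a, h2, m⟩ := h.up a' ha
  have h3 := h1 a h2
  rwa [h.corQ m, mul_left_comm, dvd_odd_mul h.odd] at h3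

theorem dvd_q2 {e : ℕ} {η' : Vec R'} {n : ℤ} (h1 : ∀ q, Q2 Ψ q → (2 : ℤ) ^ e ∣ n * ((η' ᵥ* Q) ⬝ᵥ q)) :
    ∀ q, Q2 Ψ' q → (2 : ℤ) ^ e ∣ n * (η' ⬝ᵥ q) := fun q hq => by
  have h3 := h1 _ (h.q2_up hq)
  rwa [h.vQ_P, mul_left_comm, dvd_odd_mul h.odd] at h3

/-- **the transport of the lattice facts** -/
theorem loc (l : Loc Ψ) : Loc Ψ' where
  tf x' hx h1 := by
    obtain ⟨x, h2, rfl⟩ := h.qx_up hx
    obtain ⟨y, h3, rfl⟩ := l.tf x h2 fun j => by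
      choose u hu using h1
      have h3 := congrFun (h.vPQ x) j
      rw [show x ᵥ* P = (2 : ℤ) • u from funext hu, smul_vecMul] at h3
      exact (dvd_odd_mul h.odd 1).1 ⟨_, h3.symm⟩
    exact ⟨y ᵥ* P, h.qx_dn h3, smul_vecMul _ _ _⟩
  lx e η h1 := (l.lx e _ (h.ix h1)).imp h.dvd_cor fun h2 => ⟨h.t4_iff.2 h2.1, h.dvd_q2 h2.2⟩
  c6 e η h1 h2 := (l.c6 e _ (h.ix h1) (h2.trans_eq (h.sub fun _ _ _ _ m => by rw [h.corQ m, dvd_odd_mul h.odd]).ncard_eq)).imp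
    (fun h3 => by simpa only [one_mul] using h.dvd_cor (n := 1) (by simpa only [one_mul] using h3))
    fun h3 => ⟨h.t4_iff.2 h3.1, by simpa only [one_mul] using h.dvd_q2 (n := 1) (by simpa only [one_mul] using h3.2)⟩
  y2 h1 e x h2 a' ha := by
    obtain ⟨a, h3, m⟩ := h.up a' ha
    exact (m.dot x).symm ▸ l.y2 (mt h.t4_iff.2 h1) e _ (h.iy h2) a h3
  y4 h1 e x h2 := by
    obtain ⟨m, h3, q, h4, h5⟩ := l.y4 (h.t4_iff.1 h1) e _ (h.iy h2)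
    obtain ⟨q', h6, rfl⟩ := h.qv_dn h4
    exact ⟨m, h3, q', h6, h.perp_sub.1 h5⟩
  h2 h1 := (l.h2 (h.t4_iff.1 h1)).imp h.nonempty_iff.2 h.hk
  c7 lam h1 := (l.c7 _ ((h.lev lam).ncard_eq.symm.trans h1)).imp h.perp_iff.1 fun h2 => ⟨h.top_iff.2 h2.1, h.s7 h2.2⟩
  b1 := l.b1.imp h.ex (Or.imp h.t4_iff.2 h.s6)

theorem fam (f : Fam Ψ) : Fam Ψ' := fun lam => (h.lev lam).loc (f _)

theorem trans {P' : Matrix R' R'' ℤ} {Q' : Matrix R'' R' ℤ} {z' : ℤ} {Ψ'' : RS R''} (h' : Isg P' Q' z' Ψ'' Ψ') :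
    Isg (P * P') (Q' * Q) (z * z') Ψ'' Ψ where
  odd := h.odd.mul h'.odd
  PQ := by rw [Matrix.mul_assoc, ← Matrix.mul_assoc P', h'.PQ, Matrix.smul_mul, Matrix.one_mul, Matrix.mul_smul, h.PQ, smul_smul,
    mul_comm]
  QP := by rw [Matrix.mul_assoc, ← Matrix.mul_assoc Q, h.QP, Matrix.smul_mul, Matrix.one_mul, Matrix.mul_smul, h'.QP, smul_smul]
  up a'' ha := by
    obtain ⟨a', h1, m'⟩ := h'.up a'' ha
    obtain ⟨a, h2, m⟩ := h.up a' h1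
    exact ⟨a, h2, by rw [m'.1, m.1, vecMul_vecMul], by rw [← mulVec_mulVec, m'.2, m.2]⟩
  dn a ha := by
    obtain ⟨a', h1, m⟩ := h.dn a ha
    obtain ⟨a'', h2, m'⟩ := h'.dn a' h1
    exact ⟨a'', h2, by rw [m'.1, m.1, vecMul_vecMul], by rw [← mulVec_mulVec, m'.2, m.2]⟩

end Isg

theorem Isg.mt_symm (h : Isg P Q 1 Ψ' Ψ) (m : Mt P a' a) : Mt Q a a' :=
  ⟨by rw [m.1, h.vPQ, one_smul], by rw [← m.2, h.QPv, one_smul]⟩

theorem Isg.symm (h : Isg P Q 1 Ψ' Ψ) : Isg Q P 1 Ψ Ψ' :=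
  ⟨h.odd, h.QP, h.PQ, fun a ha => (h.dn a ha).imp fun _ m => ⟨m.1, h.mt_symm m.2⟩,
    fun a ha => (h.up a ha).imp fun _ m => ⟨m.1, h.mt_symm m.2⟩⟩

theorem Isg.refl (Ψ : RS R) : Isg 1 1 1 Ψ Ψ :=
  ⟨odd_one, by simp, by simp, fun a ha => ⟨a, ha, (vecMul_one _).symm, one_mulVec _⟩,
    fun a ha => ⟨a, ha, (vecMul_one _).symm, one_mulVec _⟩⟩

variable {p : ℕ} [Fact p.Prime] {k : Type} [Field k] [CharP k p] [IsAlgClosed k] {Y : Type} [Group Y] {N : Type}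
  [Fintype N] [DecidableEq N] {ρ : Y →* GL N k} {F : MulAut Y} {G : Subgroup Y} (D : Datum p ρ F G)

/-- **conjugation by the Weyl group** -/
theorem isg_W (u : D.W) : Isg (D.Wm u) (D.Wm u⁻¹) 1 (rts D) (rts D) where
  odd := odd_one
  PQ := by rw [← D.Wm_mul, mul_inv_cancel, D.Wm_one, one_smul]
  QP := by rw [← D.Wm_mul, inv_mul_cancel, D.Wm_one, one_smul]
  up := by
    rintro _ ⟨b, hb, rfl⟩
    exact ⟨_, rt_mem (hb.act u), (D.wt_act u b).symm, (D.cor_act u hb).symm⟩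
  dn := by
    rintro _ ⟨b, hb, rfl⟩
    refine ⟨_, rt_mem (hb.act u⁻¹), D.wt_act' u b, ?_⟩
    show D.Wm u *ᵥ D.cor (D.act u⁻¹ b) = D.cor b
    rw [D.cor_act u⁻¹ hb, mulVec_mulVec, ← D.Wm_mul, mul_inv_cancel, D.Wm_one, one_mulVec]

end Cfsg.Agent.HZ.L.U
end

-- part: HZ/L/CL/Bas
section
prune_inst 0x40000000000000000400038020600009010000000404200400080880000040000000010100008001828000040000000000008000000000000000000000000000010000000000000000000000000000000000000000000000000000004000000000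
set_option linter.all false
open scoped Cfsg.Agent.FastGrp

/-!
# HZ/L, the symplectic and the spin groups: roots, signed permutations, labels (helper60)
-/

set_option autoImplicit false
set_option linter.unusedSectionVars false

namespace Cfsg.Agent.HZ.L.CL

open Cfsg Cfsg.Agent.DL Cfsg.Agent.DL.PP Matrix Cfsg.Agent.KZ.Lie

variable {n : ℕ} {R : Type} [Fintype R] [DecidableEq R] {κ : Kd} {J : Matrix (Fin n) R ℤ} {y : Fin n → ℤ}
  {A A' : Mat R} {π π' : Equiv.Perm (Fin n)} {c c' : Lb R}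

/-! ### roots -/

theorem uv_apply (i : Fin n) (s : ℤˣ) (k : Fin n) : uv i s k = if k = i then (s : ℤ) else 0 := Pi.single_apply _ _ _

theorem uv_dot (i : Fin n) (s : ℤˣ) (g : Fin n → ℤ) : uv i s ⬝ᵥ g = s * g i := single_dotProduct _ _ _

theorem uv_eq (i : Fin n) (s : ℤˣ) : uv i s = (s : ℤ) • Pi.single i 1 := by
  funext k
  rw [uv_apply, Pi.smul_apply, Pi.single_apply]
  split_ifs <;> simp

theorem ev_uv (i : Fin n) (s : ℤˣ) (g : Fin n → ℂ) : ev (uv i s) g = ((s : ℤ) : ℂ) * g i := by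
  simp only [ev, dotProduct, uv_apply, _root_.Int.cast_ite, _root_.Int.cast_zero, _root_.ite_mul, _root_.MulZeroClass.zero_mul, _root_.Finset.sum_ite_eq', _root_.Finset.mem_univ, ↓ _root_.reduceIte]

theorem ev_add {ι : Type} [Fintype ι] (a b : Vec ι) (g : ι → ℂ) : ev (a + b) g = ev a g + ev b g := by
  simp only [ev, dotProduct, add_mul, Finset.sum_add_distrib, _root_.Pi.add_apply, _root_.Int.cast_add]

theorem ev_smul {ι : Type} [Fintype ι] (m : ℤ) (a : Vec ι) (g : ι → ℂ) : ev (m • a) g = m * ev a g := by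
  simp only [ev, dotProduct, Finset.mul_sum, mul_assoc, _root_.Pi.smul_apply, _root_.Int.zsmul_eq_mul, _root_.Int.cast_mul]

theorem ev_vecMul {ι : Type} [Fintype ι] (a : Vec ι) (X : Matrix ι R ℤ) (g : R → ℂ) :
    ev (a ᵥ* X) g = ev a (X.map (Int.cast : ℤ → ℂ) *ᵥ g) := by
  unfold ev
  rw [dotProduct_mulVec]
  congr 1
  funext i
  simp only [vecMul, dotProduct, _root_.Int.cast_sum, _root_.Int.cast_mul, _root_.Matrix.map_apply]

/-- the normal form of a root -/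
structure Nf (κ : Kd) (r : Vec (Fin n) × Vec (Fin n)) (i j : Fin n) (s t : ℤˣ) (m m' : ℤ) : Prop where
  hm : m = 1 ∨ m = 2
  hm' : m' = 1 ∨ m' = 2
  eq : i = j → s = t ∧ κ ≠ .D ∧ m * m' = 2
  ne : i ≠ j → m = 1 ∧ m' = 1
  h1 : m • r.1 = uv i s + uv j t
  h2 : m' • r.2 = uv i s + uv j t

variable {r : Vec (Fin n) × Vec (Fin n)}

theorem full_nf (h : r ∈ full κ n) : ∃ i j s t m m', Nf κ r i j s t m m' := by
  rcases h with ⟨i, j, s, t, h, rfl⟩ | ⟨i, s, ⟨rfl, rfl⟩ | ⟨rfl, rfl⟩⟩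
  · exact ⟨i, j, s, t, 1, 1, .inl rfl, .inl rfl, fun e => absurd e h, fun _ => ⟨rfl, rfl⟩, one_smul _ _, one_smul _ _⟩
  · exact ⟨i, i, s, s, 2, 1, .inr rfl, .inl rfl, fun _ => ⟨rfl, by simp, rfl⟩, fun e => absurd rfl e, two_smul _ _,
      (one_smul _ _).trans (two_smul _ _)⟩
  · exact ⟨i, i, s, s, 1, 2, .inl rfl, .inr rfl, fun _ => ⟨rfl, by simp, rfl⟩, fun e => absurd rfl e,
      (one_smul _ _).trans (two_smul _ _), two_smul _ _⟩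

theorem long_mem {i j : Fin n} (h : i ≠ j) (s t : ℤˣ) : (uv i s + uv j t, uv i s + uv j t) ∈ full κ n :=
  .inl ⟨i, j, s, t, h, rfl⟩

namespace Nf

variable {i j : Fin n} {s t : ℤˣ} {m m' : ℤ} (h : Nf κ r i j s t m m')
include h

theorem m_ne : m ≠ 0 := by rcases h.hm with e | e <;> omega

theorem m_ne' : m' ≠ 0 := by rcases h.hm' with e | e <;> omega

theorem dot (g : Fin n → ℤ) : m * (r.1 ⬝ᵥ g) = s * g i + t * g j := by
  rw [← smul_eq_mul, ← smul_dotProduct, h.h1, add_dotProduct, uv_dot, uv_dot]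

theorem dot' (g : Fin n → ℤ) : m' * (r.2 ⬝ᵥ g) = s * g i + t * g j := by
  rw [← smul_eq_mul, ← smul_dotProduct, h.h2, add_dotProduct, uv_dot, uv_dot]

theorem dot_iff (g : Fin n → ℤ) : r.1 ⬝ᵥ g = 0 ↔ s * g i + t * g j = 0 := by
  rw [← h.dot, mul_eq_zero, or_iff_right h.m_ne]

theorem dot_iff' (g : Fin n → ℤ) : r.2 ⬝ᵥ g = 0 ↔ s * g i + t * g j = 0 := by
  rw [← h.dot', mul_eq_zero, or_iff_right h.m_ne']

theorem ev_iff (g : Fin n → ℂ) : ev r.1 g = 0 ↔ ((s : ℤ) : ℂ) * g i + ((t : ℤ) : ℂ) * g j = 0 := by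
  rw [← ev_uv, ← ev_uv, ← ev_add, ← h.h1, ev_smul, mul_eq_zero, or_iff_right (Int.cast_ne_zero.2 h.m_ne)]

theorem supp (k : Fin n) : (uv i s + uv j t) k ≠ 0 ↔ k = i ∨ k = j := by
  have h1 := s.ne_zero
  have h2 := t.ne_zero
  rw [Pi.add_apply, uv_apply, uv_apply]
  by_cases a : k = i <;> by_cases b : k = j
  · have := (h.eq (a.symm.trans b)).1
    subst this
    rw [if_pos a, if_pos b]
    exact ⟨fun _ => .inl a, fun _ => by omega⟩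
  · rw [if_pos a, if_neg b, add_zero]
    exact ⟨fun _ => .inl a, fun _ => by exact_mod_cast h1⟩
  · rw [if_neg a, if_pos b, zero_add]
    exact ⟨fun _ => .inr b, fun _ => by exact_mod_cast h2⟩
  · simp [a, b]

theorem supp2 (k : Fin n) : r.2 k ≠ 0 ↔ k = i ∨ k = j := by
  rw [← h.supp, ← h.h2, Pi.smul_apply, smul_eq_mul, mul_ne_zero_iff, and_iff_right h.m_ne']

theorem refl (g : Fin n → ℤ) (k : Fin n) :
    (g - (r.1 ⬝ᵥ g) • r.2) (Equiv.swap i j k) = ((if k = i ∨ k = j then -(s * t) else 1 : ℤˣ) : ℤ) * g k := by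
  have h1 := h.dot g
  have h2 : ∀ l, m' * r.2 l = uv i s l + uv j t l := fun l => congrFun h.h2 l
  have hs := Int.units_coe_mul_self s
  have ht := Int.units_coe_mul_self t
  rw [Pi.sub_apply, Pi.smul_apply, smul_eq_mul]
  by_cases e : k = i ∨ k = j
  swap
  · have e1 : k ≠ i := fun a => e (.inl a)
    have e2 : k ≠ j := fun a => e (.inr a)
    rw [if_neg e, Equiv.swap_apply_of_ne_of_ne e1 e2, not_not.1 (mt (h.supp2 k).1 e)]
    simp only [_root_.MulZeroClass.mul_zero, _root_.sub_zero, _root_.Units.val_one, _root_.one_mul]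
  rw [if_pos e, Units.val_neg, Units.val_mul]
  by_cases a : i = j
  · obtain ⟨rfl, -, h3⟩ := h.eq a
    subst a
    obtain rfl : k = i := e.elim id id
    have h4 := h2 k
    rw [uv_apply, if_pos rfl] at h4
    rw [Equiv.swap_self, Equiv.refl_apply, hs]
    have h5 : 2 * (r.1 ⬝ᵥ g * r.2 k) = 2 * (2 * g k) := by
      calc _ = (m * (r.1 ⬝ᵥ g)) * (m' * r.2 k) := by rw [← h3]; ring
        _ = 4 * ((s : ℤ) * s) * g k := by rw [h1, h4]; ring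
        _ = _ := by rw [hs]; ring
    omega
  · obtain ⟨rfl, rfl⟩ := h.ne a
    rw [one_mul] at h1
    simp only [one_mul] at h2
    rcases e with rfl | rfl
    · rw [Equiv.swap_apply_left, h1, h2, uv_apply, uv_apply, if_neg (Ne.symm a), if_pos rfl]
      linear_combination (-g j) * ht
    · rw [Equiv.swap_apply_right, h1, h2, uv_apply, uv_apply, if_pos rfl, if_neg a]
      linear_combination (-g i) * hs

end Nf

/-! ### the lattice -/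

namespace Lat

variable (h : Lat κ J)
include h

theorem ext {v v' : Vec R} (e : J *ᵥ v = J *ᵥ v') : v = v' :=
  sub_eq_zero.1 (h.inj _ (by rw [mulVec_sub, e, sub_self]))

theorem mul : J * Hm J = (2 : ℤ) • (1 : Matrix (Fin n) (Fin n) ℤ) := by
  ext k i
  have h1 := congrFun (Function.invFun_eq (f := J.mulVec) (h.even (Pi.single i 2) (by simp only [_root_.Finset.sum_pi_single', _root_.Finset.mem_univ, ↓ _root_.reduceIte, _root_.even_two]))) k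
  refine h1.trans ?_
  rw [Pi.single_apply, Matrix.smul_apply, one_apply]
  split_ifs <;> simp

theorem JH (g : Fin n → ℤ) : J *ᵥ (Hm J *ᵥ g) = (2 : ℤ) • g := by
  rw [mulVec_mulVec, h.mul, smul_mulVec, one_mulVec]

theorem HJ (v : Vec R) : Hm J *ᵥ (J *ᵥ v) = (2 : ℤ) • v := h.ext (by rw [h.JH, mulVec_smul])

theorem J_yv (c : Lb R) : J.map (Int.cast : ℤ → ℂ) *ᵥ yv J c = (2 : ℂ) • fun i => ph (bb J c i) := by
  have h1 : J.map (Int.cast : ℤ → ℂ) * (Hm J).map (Int.cast : ℤ → ℂ) = (2 : ℂ) • 1 := by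
    have h2 := Matrix.map_mul (L := J) (M := Hm J) (f := Int.castRingHom ℂ)
    rw [h.mul] at h2
    refine h2.symm.trans ?_
    ext a b
    rw [map_apply, Matrix.smul_apply, Matrix.smul_apply, one_apply, one_apply]
    split_ifs <;> simp
  rw [yv, mulVec_mulVec, h1, smul_mulVec, one_mulVec]

theorem ev_yv (a : Fin n → ℤ) (c : Lb R) : ev (a ᵥ* J) (yv J c) = 0 ↔ ev a (fun i => ph (bb J c i)) = 0 := by
  rw [ev_vecMul, h.J_yv, ev, dotProduct_smul, smul_eq_zero, or_iff_right two_ne_zero]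
  rfl

theorem yv_inj (e : yv J c = yv J c') (i : Fin n) : ph (bb J c i) = ph (bb J c' i) := by
  have h1 := h.J_yv c
  rw [e, h.J_yv] at h1
  exact (congrFun (smul_right_injective _ two_ne_zero h1) i).symm

theorem mem_sub (hr : r ∈ full κ n) (h0 : r.1 ⬝ᵥ y = 0) : ∃ a ∈ sub κ J y, a.1 = r.1 ᵥ* J ∧ J *ᵥ a.2 = r.2 := by
  obtain ⟨v, hv⟩ := h.cor r hr
  exact ⟨(r.1 ᵥ* J, v), ⟨r, ⟨hr, h0⟩, rfl, hv⟩, rfl, hv⟩

theorem perp_iff {v : Vec R} : Perp (sub κ J y) v ↔ ∀ r ∈ lev (full κ n) y, r.1 ⬝ᵥ (J *ᵥ v) = 0 := by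
  constructor
  · intro h1 r hr
    obtain ⟨a, ha, e, -⟩ := h.mem_sub hr.1 hr.2
    rw [dotProduct_mulVec, ← e]
    exact h1 a ha
  · rintro h1 a ⟨r, hr, e, -⟩
    rw [e, ← dotProduct_mulVec]
    exact h1 r hr

theorem nc_iff : NC (sub κ J y) J c ↔ ∀ r ∈ lev (full κ n) y, ev r.1 (fun i => ph (bb J c i)) = 0 := by
  constructor
  · intro h1 r hr
    obtain ⟨a, ha, e, -⟩ := h.mem_sub hr.1 hr.2
    rw [← h.ev_yv, ← e]
    exact h1 a ha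
  · rintro h1 a ⟨r, hr, e, -⟩
    rw [e, h.ev_yv]
    exact h1 r hr

end Lat

/-! ### signed permutations -/

section sp

variable {s s' : Fin n → ℤˣ}

theorem Sp.one (J : Matrix (Fin n) R ℤ) : Sp J 1 1 fun _ => 1 := fun v i => by simp

theorem Sp.mul (h : Sp J A π s) (h' : Sp J A' π' s') : Sp J (A * A') (π * π') fun i => s (π' i) * s' i := fun v i => by
  rw [← mulVec_mulVec, Equiv.Perm.mul_apply, h, h', Units.val_mul, mul_assoc]

theorem SP.one (J : Matrix (Fin n) R ℤ) : SP J 1 := ⟨_, _, Sp.one J⟩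

theorem SP.mul (h : SP J A) (h' : SP J A') : SP J (A * A') :=
  let ⟨_, _, a⟩ := h
  let ⟨_, _, b⟩ := h'
  ⟨_, _, a.mul b⟩

theorem sp_rfm {a : Vec R × Vec R} (h : a ∈ sub κ J y) : SP J (rfm a) := by
  obtain ⟨r, hr, e1, e2⟩ := h
  obtain ⟨i, j, s, t, m, m', hN⟩ := full_nf hr.1
  refine ⟨Equiv.swap i j, _, fun v k => Eq.trans ?_ (hN.refl (J *ᵥ v) k)⟩
  rw [rfm, sub_mulVec, one_mulVec, vecMulVec_mulVec, op_smul_eq_smul, mulVec_sub, mulVec_smul, e1, e2, dotProduct_mulVec]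

theorem sp_WW (h : A ∈ WW (sub κ J y)) : SP J A := by
  induction h using Submonoid.closure_induction with
  | mem x hx =>
    obtain ⟨a, ha, rfl⟩ := hx
    exact sp_rfm ha
  | one => exact SP.one J
  | mul x y _ _ hx hy => exact hx.mul hy

theorem Sp.Hm' (h : Sp J A π s) (hL : Lat κ J) {g g' : Fin n → ℤ} (e : ∀ i, g' (π i) = s i * g i) :
    A *ᵥ (Hm J *ᵥ g) = Hm J *ᵥ g' := by
  refine hL.ext (funext fun k => ?_)
  obtain ⟨i, rfl⟩ := π.surjective k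
  rw [h, hL.JH, hL.JH, Pi.smul_apply, Pi.smul_apply, e, smul_eq_mul, smul_eq_mul, mul_left_comm]

theorem uv_perm (π : Equiv.Perm (Fin n)) (s : Fin n → ℤˣ) (i : Fin n) (t : ℤˣ) (k : Fin n) :
    uv (π i) (s i * t) (π k) = s k * uv i t k := by
  rw [uv_apply, uv_apply]
  by_cases e : k = i
  · rw [if_pos e, if_pos (congrArg π e), e, Units.val_mul]
  · rw [if_neg e, if_neg (fun a => e (π.injective a)), mul_zero]

theorem Sp.Hm (h : Sp J A π s) (hL : Lat κ J) (i : Fin n) (t : ℤˣ) :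
    A *ᵥ (Hm J *ᵥ uv i t) = Hm J *ᵥ uv (π i) (s i * t) := h.Hm' hL (uv_perm π s i t)

/-- the action on coordinates -/
def pv (π : Equiv.Perm (Fin n)) (s : Fin n → ℤˣ) (g : Fin n → ℤ) : Fin n → ℤ := fun k => s (π.symm k) * g (π.symm k)

theorem pv_apply (g : Fin n → ℤ) (i : Fin n) : pv π s g (π i) = s i * g i := by
  simp only [pv, Equiv.symm_apply_apply]

theorem pv_uv (i : Fin n) (t : ℤˣ) : pv π s (uv i t) = uv (π i) (s i * t) := funext fun k => by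
  obtain ⟨k, rfl⟩ := π.surjective k
  rw [pv_apply, uv_perm]

theorem pv_add (g g' : Fin n → ℤ) : pv π s (g + g') = pv π s g + pv π s g' := funext fun _ => mul_add _ _ _

theorem Sp.pv (h : Sp J A π s) (v : Vec R) : J *ᵥ (A *ᵥ v) = pv π s (J *ᵥ v) := funext fun k => by
  obtain ⟨k, rfl⟩ := π.surjective k
  rw [pv_apply, h]

/-! ### labels -/

theorem chr_bb (J : Matrix (Fin n) R ℤ) (c : Lb R) (g : Fin n → ℤ) : chr g (bb J c) = chr (CL.Hm J *ᵥ g) c := chr_pl _ _ _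

theorem chr_uv (i : Fin n) (t : ℤˣ) (b : Lb (Fin n)) : chr (uv i t) b = b i ^ (t : ℤ) := by
  rw [uv_eq, chr_zsmul, chr_single]

theorem bb_eq (J : Matrix (Fin n) R ℤ) (c : Lb R) (i : Fin n) : bb J c i = chr (CL.Hm J *ᵥ uv i 1) c := by
  rw [← chr_bb, chr_uv, Units.val_one, zpow_one]

theorem bb_pow (J : Matrix (Fin n) R ℤ) (c : Lb R) (m : ℕ) (i : Fin n) : bb J (c ^ m) i = bb J c i ^ m := by
  rw [bb_eq, bb_eq, map_pow]

theorem bb_gal (J : Matrix (Fin n) R ℤ) (σ : ℂ ≃+* ℂ) (c : Lb R) (i : Fin n) :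
    (bb J (gal σ c) i : ℂ) = σ (bb J c i) := by
  rw [bb_eq, bb_eq, chr_gal]
  rfl

theorem Lat.chr_sq (h : Lat κ J) (c : Lb R) (v : Vec R) : chr (J *ᵥ v) (bb J c) = chr v c ^ 2 := by
  rw [chr_bb, h.HJ, chr_zsmul, zpow_ofNat]

theorem Sp.bb (h : Sp J A π s) (hL : Lat κ J) {i : Fin n} (e : chr (A *ᵥ (CL.Hm J *ᵥ uv i 1)) c' = chr (CL.Hm J *ᵥ uv i 1) c) :
    bb J c i = bb J c' (π i) ^ (s i : ℤ) := by
  rw [bb_eq, ← e, h.Hm hL, ← chr_bb, chr_uv, mul_one]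

theorem ph_inv (t : ℂˣ) : ph t⁻¹ = -ph t := by
  have h := t.ne_zero
  by_cases e : (t : ℂ) + 1 = 0
  · have h1 : (t : ℂ) = -1 := eq_neg_of_add_eq_zero_left e
    simp [ph, h1]
  · have h1 : (t : ℂ)⁻¹ + 1 ≠ 0 := fun a => e (by field_simp at a; linear_combination a)
    simp only [ph, Units.val_inv_eq_inv_val]
    rw [← neg_div, div_eq_div_iff h1 e]
    field_simp
    ring

theorem ph_zpow (t : ℂˣ) (s : ℤˣ) : ph (t ^ (s : ℤ)) = ((s : ℤ) : ℂ) * ph t := by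
  rcases Int.units_eq_one_or s with rfl | rfl
  · simp
  · simp [ph_inv]

theorem sq_iff (t : ℂˣ) : t ^ 2 = 1 ↔ (t : ℂ) - 1 = 0 ∨ (t : ℂ) + 1 = 0 := by
  rw [← mul_eq_zero, ← Units.val_inj, Units.val_pow_eq_pow_val, Units.val_one, ← sub_eq_zero]
  exact iff_of_eq (by congr 1; ring)

theorem ph_zero {t : ℂˣ} : ph t = 0 ↔ t ^ 2 = 1 := by rw [ph, div_eq_zero_iff, sq_iff]

theorem ph_eq {a b : ℂˣ} : ph a = ph b ↔ a = b ∨ a ^ 2 = 1 ∧ b ^ 2 = 1 := by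
  refine ⟨fun h => ?_, fun h => h.elim (congrArg ph) fun h => by rw [ph_zero.2 h.1, ph_zero.2 h.2]⟩
  by_cases e : a ^ 2 = 1
  · exact .inr ⟨e, ph_zero.1 (h ▸ ph_zero.2 e)⟩
  have e' : ¬ b ^ 2 = 1 := fun x => e (ph_zero.1 (h ▸ ph_zero.2 x))
  rw [sq_iff, not_or] at e e'
  rw [ph, ph, div_eq_div_iff e.2 e'.2] at h
  exact .inl (Units.ext (by linear_combination h / 2))

/-- transport of the vectors -/
theorem Sp.yv (h : Sp J A π s) (hL : Lat κ J) (e : ∀ i, ph (CL.bb J c' (π i)) = ((s i : ℤ) : ℂ) * ph (CL.bb J c i)) :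
    A.map (Int.cast : ℤ → ℂ) *ᵥ yv J c = yv J c' := by
  let P : Matrix (Fin n) (Fin n) ℤ := Matrix.of fun k i => if i = π.symm k then (s i : ℤ) else 0
  have h1 : A * CL.Hm J = CL.Hm J * P := ext_iff_mulVec.2 fun g => by
    rw [← mulVec_mulVec, ← mulVec_mulVec]
    exact h.Hm' hL fun i => by simp only [P, mulVec, dotProduct, _root_.Matrix.of_apply, _root_.Equiv.symm_apply_apply, _root_.ite_mul, _root_.MulZeroClass.zero_mul, _root_.Finset.sum_ite_eq', _root_.Finset.mem_univ, ↓ _root_.reduceIte]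
  have h2 := Matrix.map_mul (L := A) (M := CL.Hm J) (f := Int.castRingHom ℂ)
  have h3 := Matrix.map_mul (L := CL.Hm J) (M := P) (f := Int.castRingHom ℂ)
  rw [h1, h3] at h2
  simp only [Int.coe_castRingHom] at h2
  rw [CL.yv, CL.yv, mulVec_mulVec, ← h2, ← mulVec_mulVec]
  congr 1
  funext k
  obtain ⟨i, rfl⟩ := π.surjective k
  rw [e]
  simp only [P, mulVec, dotProduct, apply_ite (Int.cast : ℤ → ℂ), _root_.Matrix.map_apply, _root_.Matrix.of_apply, _root_.Equiv.symm_apply_apply, _root_.Int.cast_zero, _root_.ite_mul, _root_.MulZeroClass.zero_mul, _root_.Finset.sum_ite_eq', _root_.Finset.mem_univ, ↓ _root_.reduceIte]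

theorem ph_flip {a b : ℂˣ} {s : ℤˣ} (e : a = b ^ (s : ℤ)) : ph b = ((s : ℤ) : ℂ) * ph a := by
  rw [e, ph_zpow, ← mul_assoc, ← Int.cast_mul, Int.units_coe_mul_self, Int.cast_one, one_mul]

theorem SP.yv (h : SP J A) (hL : Lat κ J) (e : Tl A c c') : A.map (Int.cast : ℤ → ℂ) *ᵥ yv J c = yv J c' :=
  let ⟨_, _, a⟩ := h
  a.yv hL fun _ => ph_flip (a.bb hL (e _))

end sp

theorem eq_of_chr' (h : ∀ v, chr v c = chr v c') : c = c' := funext fun i => by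
  rw [← chr_single i c, h, chr_single]

theorem gd_of_bb (h : Lat κ J) {m : ℕ} (hm : Odd m) (e : ∀ i, bb J c i ^ (2 * m) = 1) : Gd c := by
  refine ⟨m, hm, eq_of_chr' fun v => ?_⟩
  have h1 : bb J c ^ (2 * m) = 1 := funext e
  rw [map_one, map_pow, show 4 * m = 2 * (2 * m) by ring, pow_mul, ← h.chr_sq, ← map_pow, h1, map_one]

theorem _root_.Cfsg.Agent.HZ.L.Gd.bb (hc : Gd c) (h : Lat κ J) {i₀ : Fin n} (e : bb J c i₀ ^ 2 = 1) :
    ∃ m, Odd m ∧ ∀ i, bb J c i ^ (2 * m) = 1 := by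
  obtain ⟨m, hm, hc⟩ := hc
  refine ⟨m, hm, fun i => ?_⟩
  obtain ⟨v, hv⟩ := h.even (uv i 1 + uv i₀ 1) (by
    simp only [Pi.add_apply, Finset.sum_add_distrib, uv_apply, Finset.sum_ite_eq', Finset.mem_univ, if_true]
    exact ⟨_, rfl⟩)
  have h1 := h.chr_sq c v
  rw [hv, chr_add, chr_uv, chr_uv, Units.val_one, zpow_one, zpow_one] at h1
  have h2 := congrArg (· ^ (2 * m)) h1
  simp only [mul_pow] at h2
  rwa [pow_mul (CL.bb J c i₀), e, one_pow, mul_one, ← pow_mul, ← map_pow, show 2 * (2 * m) = 4 * m by ring, hc,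
    map_one] at h2

/-! ### the zero block -/

/-- the zero block is not a single index of type `D` -/
def Zr (κ : Kd) (y : Fin n → ℤ) : Prop := ∀ i, y i = 0 → κ ≠ .D ∨ ∃ j, j ≠ i ∧ y j = 0

theorem Zr.kill (h : Zr κ y) {g : Fin n → ℂ} (hg : ∀ r ∈ lev (full κ n) y, ev r.1 g = 0) {i : Fin n} (hi : y i = 0) :
    g i = 0 := by
  rcases h i hi with e | ⟨j, e, hj⟩
  · rcases κ with _ | _ | _
    · have h1 := hg _ ⟨.inr ⟨i, 1, .inl ⟨rfl, rfl⟩⟩, by rw [uv_dot, hi, mul_zero]⟩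
      simpa [ev_uv] using h1
    · have h1 := hg _ ⟨.inr ⟨i, 1, .inr ⟨rfl, rfl⟩⟩, by rw [smul_dotProduct, uv_dot, hi, mul_zero, smul_zero]⟩
      rw [ev_smul, ev_uv] at h1
      simpa using h1
    · exact absurd rfl e
  · have h1 : ∀ t : ℤˣ, ((1 : ℤˣ) : ℤ) * g i + ((t : ℤ) : ℂ) * g j = 0 := fun t => by
      rw [← ev_uv, ← ev_uv, ← ev_add]
      exact (hg _ ⟨long_mem e.symm 1 t, by rw [add_dotProduct, uv_dot, uv_dot, hi, hj, mul_zero, mul_zero, add_zero]⟩ :)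
    have h2 := h1 1
    have h3 := h1 (-1)
    simp only [Units.val_one, Units.val_neg, Int.cast_one, Int.cast_neg] at h2 h3
    linear_combination h2 / 2 + h3 / 2

theorem NC.sq (hc : NC (sub κ J y) J c) (h : Lat κ J) (hz : Zr κ y) {i : Fin n} (hi : y i = 0) : bb J c i ^ 2 = 1 :=
  ph_zero.1 (hz.kill (h.nc_iff.1 hc) hi)

theorem Zr.perp (hz : Zr κ y) (h : Lat κ J) {v : Vec R} (hv : Perp (sub κ J y) v) {i : Fin n} (hi : y i = 0) :
    (J *ᵥ v) i = 0 :=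
  Int.cast_eq_zero.1 (hz.kill (g := fun i => ((J *ᵥ v) i : ℂ))
    (fun r hr => by rw [ev_int, h.perp_iff.1 hv r hr, Int.cast_zero]) hi)

theorem lev_sub' (κ : Kd) (J : Matrix (Fin n) R ℤ) (y : Fin n → ℤ) (lam : Vec R) :
    ∃ y', lev (sub κ J y) lam = sub κ J y' := by
  let g := J *ᵥ lam
  let T : ℤ := 2 * ∑ i, |g i| + 1
  have h1 : ∀ r ∈ full κ n, r.1 ⬝ᵥ (T • y + g) = 0 ↔ r.1 ⬝ᵥ y = 0 ∧ r.1 ⬝ᵥ g = 0 := fun r hr => by
    obtain ⟨i, j, s, t, m, m', hN⟩ := full_nf hr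
    rw [dotProduct_add, dotProduct_smul, smul_eq_mul]
    refine ⟨fun e => ?_, fun e => by rw [e.1, e.2, mul_zero, add_zero]⟩
    have h2 : ∀ k, |g k| ≤ ∑ i, |g i| := fun k =>
      Finset.single_le_sum (f := fun i => |g i|) (fun _ _ => abs_nonneg _) (Finset.mem_univ k)
    have h3 : |(s : ℤ) * g i + t * g j| < T := by
      have a1 := abs_add_le ((s : ℤ) * g i) (t * g j)
      rw [abs_mul, abs_mul, Int.abs_eq_natAbs (s : ℤ), Int.abs_eq_natAbs (t : ℤ), Int.units_natAbs, Int.units_natAbs] at a1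
      have a2 := h2 i
      have a3 := h2 j
      simp only [T]
      omega
    have h4 : r.1 ⬝ᵥ g = 0 := (hN.dot_iff g).2 (Int.eq_zero_of_abs_lt_dvd (m := T)
      (hN.dot g ▸ Dvd.dvd.mul_left ⟨-(r.1 ⬝ᵥ y), by linear_combination e⟩ m) h3)
    rw [h4, add_zero, mul_eq_zero] at e
    exact ⟨e.resolve_left ((abs_nonneg _).trans_lt h3).ne', h4⟩
  refine ⟨T • y + g, Set.ext fun a => ⟨?_, ?_⟩⟩
  · rintro ⟨⟨r, hr, e1, e2⟩, e⟩
    rw [e1, ← dotProduct_mulVec] at e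
    exact ⟨r, ⟨hr.1, (h1 r hr.1).2 ⟨hr.2, e⟩⟩, e1, e2⟩
  · rintro ⟨r, hr, e1, e2⟩
    have h2 := (h1 r hr.1).1 hr.2
    exact ⟨⟨r, ⟨hr.1, h2.1⟩, e1, e2⟩, by rw [e1, ← dotProduct_mulVec]; exact h2.2⟩

variable {p : ℕ} [Fact p.Prime] {k : Type} [Field k] [CharP k p] [IsAlgClosed k] {Y : Type} [Group Y] {N : Type}
  [Fintype N] [DecidableEq N] {ρ : Y →* GL N k} {F : MulAut Y} {G : Subgroup Y} {D : Datum p ρ F G}

end Cfsg.Agent.HZ.L.CL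

private theorem dce_77bd66f252ca : _root_.True := by
  try have : _root_.True := by simp only [_root_.Cfsg.Agent.HZ.L.CL.sub.eq_1]
  try have : _root_.True := by simp only [_root_.Cfsg.Agent.HZ.L.CL.yv.eq_1]
  try have : _root_.True := by simp only [_root_.Cfsg.Agent.HZ.L.CL.pv.eq_1]
  try have : _root_.True := by simp only [_root_.Cfsg.Agent.HZ.L.CL.ph.eq_1]
  try have : _root_.True := by simp only [_root_.Cfsg.Agent.HZ.L.CL.Zr.eq_1]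
  exact _root_.True.intro
end

-- part: HZ/L/X/Adm
section
set_option linter.all false
open scoped Cfsg.Agent.FastGrp

/-!
# HZ/L, the exact system: Levi subsystems, `boxAdm` (helper29)
-/

set_option autoImplicit false
set_option linter.unusedSectionVars false

namespace Cfsg.Agent.HZ.L.X

open Cfsg Cfsg.Agent.DL Matrix Cfsg.Agent.Tits.Roots Cfsg.Agent.ChevalleyStructure.CoxeterGeom

namespace Adm

open CL CL.ExB

theorem small {M x z : ℤ} (h : |z| < M) : M * x + z = 0 ↔ x = 0 ∧ z = 0 := by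
  refine ⟨fun e => ?_, fun e => by rw [e.1, e.2, mul_zero, add_zero]⟩
  have h1 : z = 0 := Int.eq_zero_of_abs_lt_dvd ⟨-x, by linear_combination e⟩ h
  rw [h1, add_zero] at e
  exact ⟨(mul_eq_zero.1 e).resolve_left ((abs_nonneg z).trans_lt h).ne', h1⟩

/-- Levi subsystems of the standard systems -/
theorem lev_std {n : ℕ} (κ : Kd) (blk : Fin n → ℕ) (y : Fin n → ℤ) :
    ∃ blk' : Fin n → ℕ, (∀ i, blk' i = 0 → blk i = 0) ∧ Iso (lev (std κ blk) y) (std κ blk') := by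
  obtain ⟨M, hM⟩ : ∃ M : ℤ, ∀ i, 2 * |y i| < M := ⟨2 * ∑ i, |y i| + 1, fun i => by
    have := Finset.single_le_sum (f := fun i => |y i|) (fun _ _ => abs_nonneg _) (Finset.mem_univ i)
    omega⟩
  obtain ⟨z, hz⟩ : ∃ z : Fin n → ℤ, ∀ i, z i = M * blk i + y i := ⟨_, fun _ => rfl⟩
  have h0 : lev (std κ blk) y = lev (full κ n) z := by
    rw [← std_eq]
    refine Set.ext fun r => (and_assoc.trans (and_congr_right fun hr => ?_))
    obtain ⟨i, j, s, t, m, m', h⟩ := full_nf hr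
    rw [h.dot_iff, h.dot_iff, h.dot_iff, hz, hz, ← small (M := M) (lt_of_le_of_lt (abs_add_le _ _) (by
      have := hM i
      have := hM j
      rw [abs_mul, abs_mul, Int.isUnit_iff_abs_eq.1 s.isUnit, Int.isUnit_iff_abs_eq.1 t.isUnit]
      omega))]
    exact Eq.congr_left (by ring)
  have h1 := iso_sg (κ := κ) (fun i => if z i < 0 then -1 else 1) z
  have h2 : sg (fun i => if z i < 0 then -1 else 1) z = fun i => ((z i).natAbs : ℤ) := by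
    funext i
    simp only [sg]
    split_ifs <;> simp only [Units.val_neg, Units.val_one] <;> omega
  rw [h2, std_eq, ← h0] at h1
  refine ⟨_, fun i hi => ?_, h1⟩
  have h3 := hM i
  have h4 := abs_nonneg (y i)
  exact_mod_cast ((small (by omega)).1 ((hz i).symm.trans (Int.natAbs_eq_zero.1 hi))).1

variable {p : ℕ} [Fact p.Prime] {k : Type} [Field k] [CharP k p] [IsAlgClosed k] {Y : Type} [Group Y] {N : Type}
  [Fintype N] [DecidableEq N] {ρ : Y →* GL N k} {F : MulAut Y} {G : Subgroup Y} {D : Datum p ρ F G}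

theorem iso_lev {κ : Kd} {n : ℕ} {blk : Fin n → ℕ} {m : ℤ} (Φ : Fw D κ blk m) (lam : Vec D.R) :
    Iso (lev (rts D) lam) (lev (std κ blk) (Φ.P *ᵥ lam)) := by
  have h : ∀ a : rts D, a.1.1 ⬝ᵥ lam = 0 ↔ (Φ.φ a).1.1 ⬝ᵥ Φ.P *ᵥ lam = 0 := fun a => by
    rw [dotProduct_mulVec, Φ.h1, smul_dotProduct, smul_eq_mul, mul_eq_zero, or_iff_right Φ.pos.ne']
  exact ⟨⟨fun a => ⟨_, (Φ.φ ⟨a.1, a.2.1⟩).2, (h _).1 a.2.2⟩, fun b => ⟨_, (Φ.φ.symm ⟨b.1, b.2.1⟩).2, (h _).2 (by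
    rw [Equiv.apply_symm_apply]; exact b.2.2)⟩, fun a => Subtype.ext (Subtype.ext_iff.1 (Φ.φ.symm_apply_apply ⟨a.1, a.2.1⟩) :),
    fun b => Subtype.ext (Subtype.ext_iff.1 (Φ.φ.apply_symm_apply ⟨b.1, b.2.1⟩) :)⟩, fun a b => Φ.car ⟨a.1, a.2.1⟩ ⟨b.1, b.2.1⟩⟩

theorem ex (h : BoxFw D) (lam : Vec D.R) (e : Ex (rts D)) : Ex (lev (rts D) lam) := by
  obtain ⟨n, κ, blk, ⟨φ, hφ⟩, hc⟩ := e
  obtain ⟨m, Φ, -⟩ := h.all κ n blk φ hφ
  obtain ⟨blk', h1, h2⟩ := lev_std κ blk (Φ.P *ᵥ lam)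
  have h3 : Nat.card {i // blk' i = 0} ≤ Nat.card {i // blk i = 0} :=
    Nat.card_le_card_of_injective _ (Subtype.impEmbedding _ _ h1).injective
  exact ⟨n, κ, blk', (iso_lev Φ lam).trans h2, hc.imp h3.trans (And.imp_right h3.trans)⟩

theorem cz (lam : Vec D.R) (h : Cz p (rts D)) : Cz p (lev (rts D) lam) := by
  classical
  obtain ⟨m, hm⟩ := h
  refine ⟨m, fun l => ?_⟩
  obtain ⟨w, hw⟩ : ∃ w : D.W, ∀ i, 0 ≤ D.wt (D.act w (sr i)) ⬝ᵥ lam :=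
    CF.exists_dominant D (AddMonoidHom.mk' (fun a => D.wt a ⬝ᵥ lam) fun a b => by rw [map_add, add_dotProduct])
  obtain ⟨u, hu⟩ : ∃ u : D.I → Submodule.span ℤ (Prod.fst '' lev (rts D) lam), ∀ i, D.wt (D.act w (sr i)) ⬝ᵥ lam = 0 →
      (u i).1 = D.wt (D.act w (sr i)) := ⟨fun i => if h : D.wt (D.act w (sr i)) ⬝ᵥ lam = 0 then
    ⟨_, Submodule.subset_span ⟨_, ⟨rt_mem ((isRoot_sr _ _ i).act w), h⟩, rfl⟩⟩ else 0, fun i h => congrArg Subtype.val (dif_pos h)⟩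
  have hle : Submodule.span ℤ (Prod.fst '' rts D) ≤ LinearMap.range D.wt.toIntLinearMap :=
    Submodule.span_le.2 (by rintro _ ⟨_, ⟨b, _, rfl⟩, rfl⟩; exact ⟨b, rfl⟩)
  obtain ⟨mu, hmu⟩ := hm ((l ∘ₗ Fintype.linearCombination ℤ u ∘ₗ rep D.cs D.h w⁻¹) ∘ₗ
    (LinearEquiv.ofInjective D.wt.toIntLinearMap D.wt_injective).symm.toLinearMap ∘ₗ Submodule.inclusion hle)
  refine ⟨mu, fun ⟨x, hx⟩ => ?_⟩
  induction hx using Submodule.span_induction with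
  | mem x hx =>
    obtain ⟨_, ⟨⟨a, ha, rfl⟩, h0⟩, rfl⟩ := hx
    refine (hmu ⟨D.wt a, Submodule.subset_span ⟨_, rt_mem ha, rfl⟩⟩).trans (congrArg _ (congrArg l (Subtype.ext ?_)))
    have e1 : (LinearEquiv.ofInjective D.wt.toIntLinearMap D.wt_injective).symm (Submodule.inclusion hle
        ⟨D.wt a, Submodule.subset_span ⟨_, rt_mem ha, rfl⟩⟩) = a := (LinearEquiv.symm_apply_eq _).2 rfl
    obtain ⟨b, rfl⟩ : ∃ b, a = D.act w b := ⟨D.act w⁻¹ a, (rep_apply_inv _ _ _ _).symm⟩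
    have hb : D.Rt b := by
      have := ha.act w⁻¹
      rwa [rep_inv_apply] at this
    have e2 : ∀ c, D.wt (D.act w c) = ∑ i, c i • D.wt (D.act w (sr i)) := fun c => by
      conv_lhs => rw [D.eq_sum_sr c, Datum.act, map_sum, map_sum]
      exact Finset.sum_congr rfl fun i _ => by rw [map_zsmul, map_zsmul]
    have e3 : ∀ c : D.I → ℤ, 0 ≤ c → D.wt (D.act w c) ⬝ᵥ lam = 0 → ∀ i, c i = 0 ∨ D.wt (D.act w (sr i)) ⬝ᵥ lam = 0 :=
      fun c hc h i => by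
        rw [e2, sum_dotProduct] at h
        simp only [smul_dotProduct, smul_eq_mul] at h
        exact mul_eq_zero.1 ((Finset.sum_eq_zero_iff_of_nonneg fun i _ => mul_nonneg (hc i) (hw i)).1 h i (Finset.mem_univ i))
    have e4 : ∀ i, b i = 0 ∨ D.wt (D.act w (sr i)) ⬝ᵥ lam = 0 := fun i => by
      rcases hb.pos_or_neg with h | h
      · exact e3 b h h0 i
      · exact (e3 (-b) (neg_nonneg.2 h) (by
          rw [Datum.act, map_neg, map_neg, neg_dotProduct, neg_eq_zero]; exact h0) i).imp_left neg_eq_zero.1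
    change ((Fintype.linearCombination ℤ u (rep D.cs D.h w⁻¹ ((LinearEquiv.ofInjective D.wt.toIntLinearMap
      D.wt_injective).symm (Submodule.inclusion hle ⟨D.wt (D.act w b), _⟩))) : Submodule.span ℤ _) : D.R → ℤ) = D.wt (D.act w b)
    rw [e1, rep_inv_apply, Fintype.linearCombination_apply, e2, Submodule.coe_sum]
    exact Finset.sum_congr rfl fun i _ => (e4 i).elim (fun h => by rw [h, zero_smul, zero_smul, Submodule.coe_zero])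
      fun h => by rw [Submodule.coe_smul, hu i h]
  | zero => exact (zero_dotProduct _).trans ((congrArg _ (map_zero l)).trans (mul_zero _)).symm
  | add x y hx hy h1 h2 =>
    exact (add_dotProduct _ _ _).trans ((congrArg₂ (· + ·) h1 h2).trans (by rw [← mul_add, ← map_add]; rfl))
  | smul c x hx h1 =>
    exact (smul_dotProduct _ _ _).trans ((congrArg (c • ·) h1).trans (by
      rw [smul_eq_mul, mul_left_comm, ← smul_eq_mul c, ← map_smul]; rfl))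

end Adm

variable {p : ℕ} [Fact p.Prime] {k : Type} [Field k] [CharP k p] [IsAlgClosed k] {Y : Type} [Group Y] {N : Type}
  [Fintype N] [DecidableEq N] {ρ : Y →* GL N k} {F : MulAut Y} {G : Subgroup Y} {D : Datum p ρ F G}

theorem boxAdm (h : BoxFw D) : BoxAdm D := ⟨Adm.ex h, Adm.cz⟩

end Cfsg.Agent.HZ.L.X
end
end
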